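import Cfsg.Agent.Lib.LocalEvenB.OddUnitary.Basic
import Cfsg.Agent.Lib.Signalizer.Involutions
import Cfsg.Agent.Lib.OddLocal.FittingHall
import Cfsg.Agent.S0215

/-!
Owner: helper20. A simple doubly transitive group of odd degree whose point stabiliser is `U H`, `U`
nilpotent and transitive on the other points, `H` of odd order in the two point stabiliser.
The central involutions of `U`, the midpoints of two of them, and the control of 2-fusion.
-/

set_option autoImplicit false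
set_option linter.all false

namespace CfsgLib.LocalEvenB.SplitOdd

open CfsgLib.LocalEvenB.OddUnitary (cj cj_mul cj_inv cj_cj cj_one_left cj_one cj_pow cj_eq_one
  cj_eq_iff cj_injective)
open CfsgLib.Signalizer (orderOf_eq_two_of involution_sq mul_pair_zpow central_involution)

theorem inv_of_sq {G : Type*} [Group G] {x : G} (h : x * x = 1) : x⁻¹ = x :=
  inv_eq_of_mul_eq_one_right h

theorem cj_cancel {G : Type*} [Group G] (g x : G) : cj g (cj g⁻¹ x) = x := by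
  rw [cj_cj, mul_inv_cancel, cj_one_left]

theorem cj_cancel' {G : Type*} [Group G] (g x : G) : cj g⁻¹ (cj g x) = x := by
  rw [cj_cj, inv_mul_cancel, cj_one_left]

theorem cj_smul_fix {G Ω : Type*} [Group G] [MulAction G Ω] {g x : G} {c : Ω} (h : x • c = c) :
    cj g x • (g • c) = g • c := by
  simp only [cj, mul_smul, inv_smul_smul, h]

theorem cj_commute {G : Type*} [Group G] {g x y : G} (h : Commute x y) :
    Commute (cj g x) (cj g y) := by
  show _ = _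
  rw [← cj_mul, ← cj_mul, h.eq]

/-- The setup. -/
structure Hyp (G Ω : Type*) [Group G] [MulAction G Ω] where
  a : Ω
  b : Ω
  U : Subgroup G
  P : Subgroup G
  R : Subgroup G
  H : Subgroup G
  ne : a ≠ b
  two : ∀ x y : Ω, x ≠ y → ∃ g : G, g • a = x ∧ g • b = y
  odd_points : Odd (Nat.card Ω)
  P_le : P ≤ U
  R_le : R ≤ U
  U_fix : ∀ u ∈ U, u • a = a
  U_norm : ∀ g : G, g • a = a → ∀ u ∈ U, cj g u ∈ U
  U_trans : ∀ x : Ω, x ≠ a → ∃ u ∈ U, u • b = x
  nilp : Group.IsNilpotent U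
  P_two : IsPGroup 2 P
  P_index : ¬ 2 ∣ P.index
  P_norm : ∀ g : G, g • a = a → ∀ u ∈ P, cj g u ∈ P
  odd_R : Odd (Nat.card R)
  mem_R : ∀ x ∈ U, Odd (orderOf x) → x ∈ R
  H_fix : ∀ h ∈ H, h • a = a ∧ h • b = b
  odd_H : Odd (Nat.card H)
  stab : ∀ g : G, g • a = a → ∃ u ∈ U, ∃ h ∈ H, g = u * h

namespace Hyp

variable {G Ω : Type*} [Group G] [MulAction G Ω] (S : Hyp G Ω)

theorem finite_points (S : Hyp G Ω) [Finite G] : Finite Ω := by
  refine Finite.of_surjective (fun g : G => g • S.a) fun x => ?_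
  by_cases h : x = S.a
  · exact ⟨1, by simp [h]⟩
  · obtain ⟨g, ga, -⟩ := S.two x S.a h
    exact ⟨g, ga⟩

theorem exists_move_a (c : Ω) : ∃ g : G, g • S.a = c := by
  by_cases h : c = S.a
  · exact ⟨1, by rw [one_smul, h]⟩
  · obtain ⟨g, ga, -⟩ := S.two c S.a h
    exact ⟨g, ga⟩

theorem two_mem [Finite G] {x : G} (hx : x • S.a = S.a) (h2 : ∃ k, x ^ 2 ^ k = 1) : x ∈ S.P := by
  obtain ⟨k, hk⟩ := h2
  haveI : Fact (Nat.Prime 2) := ⟨Nat.prime_two⟩
  have hz : IsPGroup 2 (Subgroup.zpowers x) := fun y => by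
    obtain ⟨y, hy⟩ := y
    obtain ⟨i, rfl⟩ := Subgroup.mem_zpowers_iff.1 hy
    refine ⟨k, Subtype.ext ?_⟩
    show (x ^ i) ^ 2 ^ k = 1
    rw [← zpow_natCast, ← zpow_mul, mul_comm, zpow_mul, zpow_natCast, hk, one_zpow]
  have hn : Subgroup.zpowers x ≤ Subgroup.normalizer (S.P : Set G) := by
    rw [Subgroup.zpowers_le, Subgroup.mem_normalizer_iff]
    refine fun u => ⟨S.P_norm x hx u, fun hu => ?_⟩
    have := S.P_norm x⁻¹ (by rw [inv_smul_eq_iff, hx]) _ hu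
    rwa [show x⁻¹ = x⁻¹ from rfl, show cj x⁻¹ (x * u * x⁻¹) = u from cj_cancel' x u] at this
  have hJ : IsPGroup 2 (Subgroup.zpowers x ⊔ S.P : Subgroup G) := hz.to_sup_of_normal_right' S.P_two hn
  have hS : (S.P_two.toSylow S.P_index : Subgroup G) = S.P := rfl
  have := (S.P_two.toSylow S.P_index).is_maximal' hJ (hS.le.trans le_sup_right)
  rw [hS] at this
  exact this.le (le_sup_left (a := Subgroup.zpowers x) (Subgroup.mem_zpowers x))

theorem two_pow_of_mem {x : G} (hx : x ∈ S.P) : ∃ k, x ^ 2 ^ k = 1 := by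
  obtain ⟨k, hk⟩ := S.P_two ⟨x, hx⟩
  exact ⟨k, congrArg Subtype.val hk⟩

theorem comm [Finite G] {p r : G} (hp : p ∈ S.P) (hr : r ∈ S.R) : Commute p r := by
  have h := CfsgLib.OddLocal.commute_of_coprime_orderOf S.nilp (x := (⟨p, S.P_le hp⟩ : S.U))
    (y := ⟨r, S.R_le hr⟩) (by
      rw [Subgroup.orderOf_mk, Subgroup.orderOf_mk]
      obtain ⟨k, hk⟩ := S.two_pow_of_mem hp
      have hodd : Odd (orderOf r) :=
        S.odd_R.of_dvd_nat (Subgroup.orderOf_dvd_natCard S.R hr)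
      exact Nat.Coprime.coprime_dvd_left (orderOf_dvd_of_pow_eq_one hk)
        (Nat.Coprime.pow_left k (Nat.coprime_two_left.2 hodd)))
  exact congrArg Subtype.val h

theorem eq_one_of_P_R {x : G} (hp : x ∈ S.P) (hr : x ∈ S.R) : x = 1 := by
  obtain ⟨k, hk⟩ := S.two_pow_of_mem hp
  have hodd : Odd (orderOf x) := S.odd_R.of_dvd_nat (Subgroup.orderOf_dvd_natCard S.R hr)
  exact orderOf_eq_one_iff.1 (Nat.eq_one_of_dvd_coprimes
    (Nat.Coprime.pow_left k (Nat.coprime_two_left.2 hodd)) (orderOf_dvd_of_pow_eq_one hk) dvd_rfl)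

/-- The two parts of an element of `U`, in any subgroup containing it. -/
theorem parts [Finite G] {Y : Subgroup G} {y : G} (hy : y ∈ S.U) (hY : y ∈ Y) :
    ∃ p ∈ S.P, ∃ r ∈ S.R, p ∈ Y ∧ r ∈ Y ∧ y = p * r := by
  obtain ⟨k, m, hm, he⟩ := Nat.exists_eq_two_pow_mul_odd (orderOf_pos y).ne'
  obtain ⟨α, β, hab⟩ := (Nat.isCoprime_iff_coprime.2 (Nat.Coprime.pow_left k (Nat.coprime_two_left.2 hm)) :
    IsCoprime ((2 ^ k : ℕ) : ℤ) (m : ℤ))
  have h1 : y ^ ((2 ^ k : ℕ) * m : ℕ) = 1 := by rw [← he, pow_orderOf_eq_one]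
  have key : ∀ e : ℤ, y ^ (e * ((2 ^ k : ℕ) : ℤ) * (m : ℤ)) = 1 := fun e => by
    rw [mul_assoc, mul_comm e, zpow_mul, ← Nat.cast_mul, zpow_natCast, h1, one_zpow]
  have hp2 : (y ^ (β * (m : ℤ))) ^ 2 ^ k = 1 := by
    rw [← zpow_natCast, ← zpow_mul, show β * (m : ℤ) * ((2 ^ k : ℕ) : ℤ) = β * ((2 ^ k : ℕ) : ℤ) * m by ring]
    exact key β
  have hr2 : (y ^ (α * ((2 ^ k : ℕ) : ℤ))) ^ m = 1 := by
    rw [← zpow_natCast, ← zpow_mul]
    exact key α
  refine ⟨y ^ (β * (m : ℤ)), S.two_mem (S.U_fix _ (zpow_mem hy _)) ⟨k, hp2⟩,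
    y ^ (α * ((2 ^ k : ℕ) : ℤ)), S.mem_R _ (zpow_mem hy _) (hm.of_dvd_nat (orderOf_dvd_of_pow_eq_one hr2)),
    zpow_mem hY _, zpow_mem hY _, ?_⟩
  rw [← zpow_add, add_comm, hab, zpow_one]

theorem R_norm [Finite G] {g : G} (hg : g • S.a = S.a) {r : G} (hr : r ∈ S.R) : cj g r ∈ S.R := by
  refine S.mem_R _ (S.U_norm g hg r (S.R_le hr)) ?_
  rw [cj, CfsgLib.Signalizer.orderOf_conj]
  exact S.odd_R.of_dvd_nat (Subgroup.orderOf_dvd_natCard S.R hr)

/-- The central involutions of `P`, with `1`. -/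
def Z : Subgroup G where
  carrier := {z | z ∈ S.P ∧ z * z = 1 ∧ ∀ p ∈ S.P, z * p = p * z}
  one_mem' := ⟨one_mem _, one_mul _, fun p _ => by rw [one_mul, mul_one]⟩
  mul_mem' := by
    rintro x y ⟨hx, hx2, hxc⟩ ⟨hy, hy2, hyc⟩
    refine ⟨mul_mem hx hy, ?_, fun p hp => by rw [mul_assoc, hyc p hp, ← mul_assoc, hxc p hp, mul_assoc]⟩
    rw [mul_assoc, ← mul_assoc y, ← hxc y hy, mul_assoc, ← mul_assoc x, hx2, hy2, one_mul]
  inv_mem' := by
    rintro x ⟨hx, hx2, hxc⟩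
    rw [Set.mem_ofPred_eq, inv_of_sq hx2]
    exact ⟨hx, hx2, hxc⟩

theorem Z_le : S.Z ≤ S.P := fun _ h => h.1

theorem Z_sq {z : G} (hz : z ∈ S.Z) : z * z = 1 := hz.2.1

theorem Z_comm_P {z p : G} (hz : z ∈ S.Z) (hp : p ∈ S.P) : Commute z p := hz.2.2 p hp

theorem Z_comm_U [Finite G] {z u : G} (hz : z ∈ S.Z) (hu : u ∈ S.U) : Commute z u := by
  obtain ⟨p, hp, r, hr, -, -, rfl⟩ := S.parts (Y := ⊤) hu (Subgroup.mem_top _)
  exact (S.Z_comm_P hz hp).mul_right (S.comm (S.Z_le hz) hr)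

theorem Z_cj {g z : G} (hg : g • S.a = S.a) (hz : z ∈ S.Z) : cj g z ∈ S.Z := by
  refine ⟨S.P_norm g hg z (S.Z_le hz), by rw [← cj_mul, S.Z_sq hz, cj_one], fun p hp => ?_⟩
  have h := cj_commute (g := g) (S.Z_comm_P hz (S.P_norm g⁻¹ (by rw [inv_smul_eq_iff, hg]) p hp))
  rw [cj_cancel] at h
  exact h

theorem Z_free [Finite G] [FaithfulSMul G Ω] {z : G} (hz : z ∈ S.Z) {x : Ω} (hx : x ≠ S.a)
    (h : z • x = x) : z = 1 := by
  obtain ⟨u, hu, rfl⟩ := S.U_trans x hx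
  refine eq_of_smul_eq_smul (α := Ω) fun y => ?_
  rw [one_smul]
  by_cases hy : y = S.a
  · rw [hy, S.U_fix z (S.P_le (S.Z_le hz))]
  obtain ⟨v, hv, rfl⟩ := S.U_trans y hy
  have hb : z • S.b = S.b := by
    rw [← mul_smul, (S.Z_comm_U hz hu).eq, mul_smul] at h
    exact smul_left_cancel u h
  rw [← mul_smul, (S.Z_comm_U hz hv).eq, mul_smul, hb]

/-- The central involutions with fixed point `c`. -/
def Zat (c : Ω) : Set G := {j | j ≠ 1 ∧ ∃ g : G, g • S.a = c ∧ cj g⁻¹ j ∈ S.Z}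

theorem zat_iff {c : Ω} {g : G} (hg : g • S.a = c) {j : G} :
    j ∈ S.Zat c ↔ j ≠ 1 ∧ cj g⁻¹ j ∈ S.Z := by
  refine ⟨fun ⟨h1, g', hg', h⟩ => ⟨h1, ?_⟩, fun ⟨h1, h⟩ => ⟨h1, g, hg, h⟩⟩
  have := S.Z_cj (g := g⁻¹ * g') (by rw [mul_smul, hg', ← hg, inv_smul_smul]) h
  rwa [← cj_cj, cj_cancel] at this

theorem zat_a {j : G} : j ∈ S.Zat S.a ↔ j ≠ 1 ∧ j ∈ S.Z := by
  rw [S.zat_iff (one_smul G S.a), inv_one, cj_one_left]

theorem zat_cj {c : Ω} {j : G} (h : j ∈ S.Zat c) (g : G) : cj g j ∈ S.Zat (g • c) := by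
  obtain ⟨h1, g', hg', h'⟩ := h
  refine ⟨by rwa [Ne, cj_eq_one], g * g', by rw [mul_smul, hg'], ?_⟩
  rwa [mul_inv_rev, ← cj_cj, cj_cancel']

theorem zat_sq {c : Ω} {j : G} (h : j ∈ S.Zat c) : j * j = 1 := by
  obtain ⟨-, g, -, hz⟩ := h
  have := S.Z_sq hz
  rwa [← cj_mul, cj_eq_one] at this

theorem zat_order {c : Ω} {j : G} (h : j ∈ S.Zat c) : orderOf j = 2 :=
  orderOf_eq_two_of h.1 (S.zat_sq h)

theorem zat_fix {c : Ω} {j : G} (h : j ∈ S.Zat c) : j • c = c := by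
  obtain ⟨-, g, rfl, hz⟩ := h
  have := cj_smul_fix (g := g) (S.U_fix _ (S.P_le (S.Z_le hz)))
  rwa [cj_cancel] at this

theorem zat_free [Finite G] [FaithfulSMul G Ω] {c x : Ω} {j : G} (h : j ∈ S.Zat c) (hx : j • x = x) :
    x = c := by
  obtain ⟨h1, g, rfl, hz⟩ := h
  by_contra hne
  refine h1 (cj_eq_one.1 (S.Z_free hz (x := g⁻¹ • x) (fun e => hne (by rw [← e, smul_inv_smul])) ?_))
  exact cj_smul_fix hx

theorem zat_mul {c : Ω} {i j : G} (hi : i ∈ S.Zat c) (hj : j ∈ S.Zat c) (h : i * j ≠ 1) :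
    i * j ∈ S.Zat c := by
  obtain ⟨g, hg⟩ := S.exists_move_a c
  refine (S.zat_iff hg).2 ⟨h, ?_⟩
  rw [cj_mul]
  exact mul_mem ((S.zat_iff hg).1 hi).2 ((S.zat_iff hg).1 hj).2

theorem zat_inj [Finite G] [FaithfulSMul G Ω] {c d : Ω} {j : G} (h : j ∈ S.Zat c) (h' : j ∈ S.Zat d) :
    c = d := S.zat_free h' (S.zat_fix h)

theorem zat_fixed [Finite G] [FaithfulSMul G Ω] {c d : Ω} {j : G} (h : j ∈ S.Zat c) {g : G}
    (hd : cj g j • d = d) : cj g j ∈ S.Zat d := by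
  rw [S.zat_free (S.zat_cj h g) hd]
  exact S.zat_cj h g

/-- A 2-element commutes with the central involutions at its fixed points. -/
theorem two_comm [Finite G] {x : G} {c : Ω} (hx : x • c = c) (h2 : ∃ k, x ^ 2 ^ k = 1) {j : G}
    (hj : j ∈ S.Zat c) : Commute x j := by
  obtain ⟨g, hg⟩ := S.exists_move_a c
  have hz := ((S.zat_iff hg).1 hj).2
  obtain ⟨k, hk⟩ := h2
  have hp : cj g⁻¹ x ∈ S.P := by
    refine S.two_mem ?_ ⟨k, by rw [← cj_pow, hk, cj_one]⟩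
    simp only [cj, inv_inv, mul_smul]
    rw [hg, hx, ← hg, inv_smul_smul]
  have h := cj_commute (g := g) (S.Z_comm_P hz hp).symm
  rwa [cj_cancel, cj_cancel] at h

theorem zat_ne_P [Finite G] [FaithfulSMul G Ω] {c : Ω} {j : G} (h : j ∈ S.Zat c) (hj : j • S.a = S.a) :
    j ∈ S.Z ∧ c = S.a := by
  have e := S.zat_free h hj
  subst e
  exact ⟨(S.zat_a.1 h).2, rfl⟩

theorem exists_zat [Finite G] (c : Ω) : ∃ j, j ∈ S.Zat c := by
  haveI : Fact (Nat.Prime 2) := ⟨Nat.prime_two⟩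
  obtain ⟨g, ga, gb⟩ := S.two S.b S.a (Ne.symm S.ne)
  have hev : Even (orderOf g) := by
    by_contra hodd
    obtain ⟨l, hl⟩ := Nat.not_even_iff_odd.1 hodd
    have hfix : ∀ i : ℕ, (g ^ 2) ^ i • S.a = S.a := fun i => by
      induction i with
      | zero => simp
      | succ i ih =>
        rw [pow_succ', mul_smul, ih, pow_two, mul_smul, ga, gb]
    have h1 := pow_orderOf_eq_one g
    rw [hl, pow_succ', pow_mul] at h1
    have h2 := congrArg (· • S.a) h1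
    simp only [mul_smul, hfix, ga, one_smul] at h2
    exact S.ne h2.symm
  have hP : S.P ≠ ⊥ := fun h => by
    have h1 := S.P_index
    rw [h, Subgroup.index_bot] at h1
    exact h1 ((even_iff_two_dvd.1 hev).trans (orderOf_dvd_natCard g))
  haveI : Nontrivial S.P := (Subgroup.nontrivial_iff_ne_bot _).2 hP
  haveI := S.P_two.center_nontrivial
  obtain ⟨k, hk⟩ := IsPGroup.iff_card.1 (S.P_two.to_subgroup (Subgroup.center S.P))
  have h2 : 2 ∣ Nat.card (Subgroup.center S.P) := by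
    rw [hk]
    refine dvd_pow_self 2 fun e => ?_
    rw [e, pow_zero] at hk
    exact (Finite.one_lt_card (α := Subgroup.center S.P)).ne' hk
  obtain ⟨z, hz⟩ := exists_prime_orderOf_dvd_card' 2 h2
  have hzo : orderOf ((z : S.P) : G) = 2 := by rw [Subgroup.orderOf_coe, Subgroup.orderOf_coe, hz]
  have hzZ : ((z : S.P) : G) ∈ S.Z := ⟨(z : S.P).2, involution_sq hzo, fun p hp =>
    congrArg Subtype.val ((Subgroup.mem_center_iff.1 z.2 ⟨p, hp⟩).symm)⟩
  obtain ⟨g', hg'⟩ := S.exists_move_a c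
  exact ⟨cj g' ((z : S.P) : G), hg' ▸ S.zat_cj (S.zat_a.2 ⟨CfsgLib.Signalizer.involution_ne_one hzo, hzZ⟩) g'⟩

/-- There are at least two central involutions at each point (Glauberman's `Z*`-theorem). -/
theorem exists_other [Finite G] [FaithfulSMul G Ω] [IsSimpleGroup G] {c : Ω} {j : G}
    (hj : j ∈ S.Zat c) : ∃ j', j' ∈ S.Zat c ∧ j' ≠ j := by
  by_contra hcon
  push Not at hcon
  obtain ⟨g, hg⟩ := S.exists_move_a c
  obtain ⟨hj1, hz⟩ := (S.zat_iff hg).1 hj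
  set z := cj g⁻¹ j with hzdef
  have hz1 : z ≠ 1 := by rwa [hzdef, Ne, cj_eq_one]
  haveI : Fact (Nat.Prime 2) := ⟨Nat.prime_two⟩
  obtain ⟨N, hN, hodd, hcomm⟩ := Cfsg.Agent.S0215.result (S.P_two.toSylow S.P_index) z
    (orderOf_eq_two_of hz1 (S.Z_sq hz)) (S.Z_le hz) fun g' hg' => by
      have hfix : cj g' z • S.a = S.a := S.U_fix _ (S.P_le hg')
      have h := S.zat_fixed (S.zat_a.2 ⟨hz1, hz⟩) hfix
      have h' := S.zat_cj h g
      rw [hg] at h'
      exact cj_injective g ((hcon _ h').trans (cj_cancel g j).symm)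
  have hzG : 2 ∣ Nat.card G := orderOf_eq_two_of hz1 (S.Z_sq hz) ▸ orderOf_dvd_natCard z
  have hbot : N = ⊥ := hN.eq_bot_or_eq_top.resolve_right fun h => by
    rw [h, Subgroup.card_top] at hodd
    exact Nat.not_even_iff_odd.2 hodd (even_iff_two_dvd.2 hzG)
  have hcen : z ∈ Subgroup.center G := Subgroup.mem_center_iff.2 fun g' => by
    have := hcomm g'
    rw [hbot, Subgroup.mem_bot, mul_inv_eq_one, mul_inv_eq_iff_eq_mul] at this
    exact this.symm
  refine hz1 (S.Z_free hz (Ne.symm S.ne) ?_)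
  obtain ⟨g', ga, -⟩ := S.two S.b S.a (Ne.symm S.ne)
  rw [← ga, ← mul_smul, ← Subgroup.mem_center_iff.1 hcen g', mul_smul, S.U_fix _ (S.P_le (S.Z_le hz))]

theorem odd_mul [Finite G] [FaithfulSMul G Ω] {c d : Ω} (hcd : c ≠ d) {z z' : G} (hz : z ∈ S.Zat c)
    (hz' : z' ∈ S.Zat d) : Odd (orderOf (z * z')) := by
  by_contra hev
  rw [Nat.not_odd_iff_even] at hev
  obtain ⟨hi, hiz, hiz'⟩ := central_involution (S.zat_order hz) (S.zat_order hz') hev
  obtain ⟨k, hk⟩ := hev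
  set i := (z * z') ^ (orderOf (z * z') / 2) with hidef
  have hic : i • c = c := S.zat_free hz (by rw [← mul_smul, ← hiz.eq, mul_smul, S.zat_fix hz])
  have hid : i • d = d := S.zat_free hz' (by rw [← mul_smul, ← hiz'.eq, mul_smul, S.zat_fix hz'])
  set r := z * z' with hr
  have hconj : ∀ l : ℕ, cj (r ^ l) z = r ^ (2 * l) * z := fun l => by
    have h := mul_pair_zpow (S.zat_order hz) (S.zat_order hz') (-(l : ℤ))
    rw [neg_neg, ← hr, zpow_neg, zpow_natCast] at h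
    rw [cj, mul_assoc, h, ← mul_assoc, ← pow_add, two_mul]
  have hdiv : orderOf r / 2 = k := by omega
  obtain ⟨l, hl | hl⟩ : ∃ l, k = 2 * l ∨ k = 2 * l + 1 := ⟨k / 2, by omega⟩
  · have e : cj (r ^ l) z = i * z := by rw [hconj, hidef, hdiv, hl]
    have h1 : i * z ∈ S.Zat c := by
      rw [← e]; exact S.zat_fixed hz (by rw [e, mul_smul, S.zat_fix hz, hic])
    have h2 := S.zat_mul h1 hz (by rw [mul_assoc, S.zat_sq hz, mul_one]; exact
      CfsgLib.Signalizer.involution_ne_one hi)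
    rw [mul_assoc, S.zat_sq hz, mul_one] at h2
    exact hcd (S.zat_free h2 hid).symm
  · have e : cj (r ^ l) z = i * z' := by
      rw [hconj, hidef, hdiv, hl, pow_succ, mul_assoc, hr, mul_assoc, S.zat_sq hz', mul_one]
    have h1 : i * z' ∈ S.Zat d := by
      rw [← e]; exact S.zat_fixed hz (by rw [e, mul_smul, S.zat_fix hz', hid])
    have h2 := S.zat_mul h1 hz' (by rw [mul_assoc, S.zat_sq hz', mul_one]; exact
      CfsgLib.Signalizer.involution_ne_one hi)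
    rw [mul_assoc, S.zat_sq hz', mul_one] at h2
    exact hcd (S.zat_free h2 hic)

/-- The midpoint of two central involutions. -/
theorem exists_mid [Finite G] [FaithfulSMul G Ω] {c d : Ω} (hcd : c ≠ d) {z z' : G} (hz : z ∈ S.Zat c)
    (hz' : z' ∈ S.Zat d) :
    ∃ w : G, w * w = 1 ∧ cj w z = z' ∧ w • c = d ∧ w • d = c ∧
      ∀ x, Commute x z → Commute x z' → Commute x w := by
  obtain ⟨l, hl⟩ := S.odd_mul hcd hz hz'
  set r := z * z' with hr
  have h := mul_pair_zpow (S.zat_order hz) (S.zat_order hz') (l : ℤ)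
  rw [← hr, zpow_neg, zpow_natCast] at h
  have hw : r ^ l * z * (r ^ l * z) = 1 := by
    rw [mul_assoc (r ^ l), ← mul_assoc z, h, mul_assoc ((r ^ l)⁻¹), S.zat_sq hz, mul_one, mul_inv_cancel]
  have hcjw : cj (r ^ l * z) z = z' := by
    rw [cj, inv_of_sq hw, mul_assoc (r ^ l) z z, S.zat_sq hz, mul_one, ← mul_assoc, ← pow_add]
    have h1 := pow_orderOf_eq_one r
    rw [hl, pow_succ, two_mul] at h1
    rw [eq_inv_of_mul_eq_one_left h1, hr, mul_inv_rev, inv_of_sq (S.zat_sq hz),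
      inv_of_sq (S.zat_sq hz'), mul_assoc, S.zat_sq hz, mul_one]
  have hwc : (r ^ l * z) • c = d := by
    refine S.zat_free hz' ?_
    rw [← hcjw]
    exact cj_smul_fix (S.zat_fix hz)
  refine ⟨r ^ l * z, hw, hcjw, hwc, ?_, fun x hx hx' => ((hx.mul_right hx').pow_right l).mul_right hx⟩
  rw [← hwc, ← mul_smul, hw, one_smul]

/-- The group fixing `a` and `c` is transitive on the central involutions at `a`, inside the centraliser
of the elements centralising all central involutions at `a` and at `c`. -/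
theorem exists_move [Finite G] [FaithfulSMul G Ω] {c : Ω} (hc : c ≠ S.a) {z z1 : G}
    (hz : z ∈ S.Zat S.a) (hz1 : z1 ∈ S.Zat S.a) :
    ∃ h : G, h • S.a = S.a ∧ h • c = c ∧ cj h z = z1 ∧
      ∀ x, (∀ j ∈ S.Zat S.a, Commute x j) → (∀ j ∈ S.Zat c, Commute x j) → Commute x h := by
  obtain ⟨z', hz'⟩ := S.exists_zat c
  obtain ⟨w, hw, hwz, hwa, hwc, hwx⟩ := S.exists_mid hc.symm hz hz'
  obtain ⟨w1, hw1, hwz1, hwa1, hwc1, hwx1⟩ := S.exists_mid hc.symm hz1 hz'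
  refine ⟨w1 * w, by rw [mul_smul, hwa, hwc1], by rw [mul_smul, hwc, hwa1], ?_, fun x ha hc' =>
    (hwx1 x (ha _ hz1) (hc' _ hz')).mul_right (hwx x (ha _ hz) (hc' _ hz'))⟩
  rw [← cj_cj, hwz, ← hwz1, cj_cj, hw1, cj_one_left]

/-- The point stabiliser controls fusion in `P`. -/
theorem fusion [Finite G] [FaithfulSMul G Ω] {x g : G} (hx : x ∈ S.P) (hgx : cj g x ∈ S.P) :
    ∃ g', g' • S.a = S.a ∧ cj g' x = cj g x := by
  by_cases hg : g • S.a = S.a
  · exact ⟨g, hg, rfl⟩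
  set c := g⁻¹ • S.a with hc
  have hca : c ≠ S.a := fun e => hg (by rw [hc, inv_smul_eq_iff] at e; exact e.symm)
  have hxc : x • c = c := by
    have := cj_smul_fix (g := g⁻¹) (S.U_fix _ (S.P_le hgx))
    rwa [cj_cancel', ← hc] at this
  obtain ⟨z, hz⟩ := S.exists_zat S.a
  obtain ⟨z', hz'⟩ := S.exists_zat c
  obtain ⟨w, hw, -, hwa, -, hwx⟩ := S.exists_mid hca.symm hz hz'
  have hxw := hwx x (S.two_comm (S.U_fix _ (S.P_le hx)) (S.two_pow_of_mem hx) hz)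
    (S.two_comm hxc (S.two_pow_of_mem hx) hz')
  refine ⟨g * w, by rw [mul_smul, hwa, hc, smul_inv_smul], ?_⟩
  rw [← cj_cj, cj_eq_iff.2 hxw.eq.symm]

end Hyp

end CfsgLib.LocalEvenB.SplitOdd
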