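import Cfsg.Agent.Lib.LocalEvenB.SplitOdd.Basic

/-!
Owner: helper20. Involutions which are not central in a Sylow 2-subgroup: the covering of the moved
points by their products with the central involutions at their fixed points, and the resulting count.
-/

set_option autoImplicit false
set_option linter.all false

namespace CfsgLib.LocalEvenB.SplitOdd

open CfsgLib.LocalEvenB.OddUnitary (cj cj_mul cj_inv cj_cj cj_one_left cj_one cj_pow cj_eq_one
  cj_eq_iff cj_injective)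
open CfsgLib.Signalizer (orderOf_eq_two_of involution_sq mul_pair_zpow central_involution
  exists_conj_of_odd)

theorem modEq_fixed_two {X : Type*} [Finite X] (σ : Equiv.Perm X) (h : σ * σ = 1) :
    Nat.card X ≡ Nat.card {x // σ x = x} [MOD 2] := by
  haveI := Fact.mk Nat.prime_two
  obtain ⟨i, hi⟩ : ∃ i, orderOf σ = 2 ^ i := by
    rcases (Nat.dvd_prime Nat.prime_two).1 (orderOf_dvd_of_pow_eq_one (x := σ) (by rw [pow_two]; exact h)) with h1 | h1
    · exact ⟨0, by rw [h1, pow_zero]⟩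
    · exact ⟨1, by rw [h1, pow_one]⟩
  have hP : IsPGroup 2 (Subgroup.zpowers σ) := IsPGroup.of_card (n := i) (by rw [Nat.card_zpowers, hi])
  refine (hP.card_modEq_card_fixedPoints X).trans (by
    refine congrArg (· % 2) ?_
    refine Nat.card_congr (Equiv.subtypeEquivRight fun x => ⟨fun hx => hx ⟨σ, Subgroup.mem_zpowers σ⟩,
      fun hx g => ?_⟩)
    obtain ⟨k, hk⟩ := Subgroup.mem_zpowers_iff.1 g.2
    show (g : Equiv.Perm X) x = x
    rw [← hk]
    exact Equiv.Perm.zpow_apply_eq_self_of_apply_eq_self hx k)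

/-- An invariant set is divisible by a common divisor of the orbit lengths. -/
theorem dvd_of_orbits {G Ω : Type*} [Group G] [MulAction G Ω] [Finite Ω] (Y : Subgroup G) (X : Set Ω)
    {k : ℕ} (hinv : ∀ y ∈ Y, ∀ x ∈ X, y • x ∈ X)
    (h : ∀ x ∈ X, k ∣ (MulAction.orbit Y x).ncard) : k ∣ X.ncard := by
  classical
  let act : MulAction Y X :=
    { smul := fun r x => ⟨(r : G) • (x : Ω), hinv r r.2 x x.2⟩
      one_smul := fun x => Subtype.ext (one_smul G (x : Ω))
      mul_smul := fun r r' x => Subtype.ext (mul_smul (r : G) (r' : G) (x : Ω)) }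
  letI := act
  haveI : Fintype (Quotient (MulAction.orbitRel Y X)) := Fintype.ofFinite _
  rw [← Nat.card_coe_set_eq, Nat.card_congr (MulAction.selfEquivSigmaOrbits Y X), Nat.card_sigma]
  refine Finset.dvd_sum fun ω _ => ?_
  rw [Nat.card_coe_set_eq]
  set x := (ω.out : X) with hx
  rw [show (MulAction.orbit Y x).ncard = (MulAction.orbit Y (x : Ω)).ncard from ?_]
  · exact h _ x.2
  · rw [← Set.ncard_image_of_injective _ (Subtype.val_injective (p := fun a => a ∈ X))]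
    congr 1
    ext y
    constructor
    · rintro ⟨-, ⟨r, rfl⟩, rfl⟩; exact ⟨r, rfl⟩
    · rintro ⟨r, rfl⟩; exact ⟨r • x, ⟨r, rfl⟩, rfl⟩

theorem orbit_card {G Ω : Type*} [Group G] [MulAction G Ω] [Finite G] [Finite Ω] (Y : Subgroup G)
    (x : Ω) :
    (MulAction.orbit Y x).ncard * Nat.card (Y ⊓ MulAction.stabilizer G x : Subgroup G) = Nat.card Y := by
  classical
  haveI := Fintype.ofFinite Y
  haveI : Fintype (MulAction.orbit Y x) := Fintype.ofFinite _
  haveI : Fintype (MulAction.stabilizer Y x) := Fintype.ofFinite _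
  have h := MulAction.card_orbit_mul_card_stabilizer_eq_card_group Y x
  rw [← Nat.card_eq_fintype_card, ← Nat.card_eq_fintype_card, ← Nat.card_eq_fintype_card,
    Nat.card_coe_set_eq] at h
  refine Eq.trans ?_ h
  congr 1
  exact (Nat.card_congr
    { toFun := fun y => ⟨((y : Y) : G), Subgroup.mem_inf.2 ⟨(y : Y).2, y.2⟩⟩
      invFun := fun y => ⟨⟨(y : G), (Subgroup.mem_inf.1 y.2).1⟩, (Subgroup.mem_inf.1 y.2).2⟩
      left_inv := fun _ => rfl
      right_inv := fun _ => rfl }).symm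

namespace Hyp

variable {G Ω : Type*} [Group G] [MulAction G Ω] [Finite G] [FaithfulSMul G Ω] (S : Hyp G Ω)

/-- The fixed points. -/
def fixPts (_S : Hyp G Ω) (u : G) : Set Ω := {x | u • x = x}

omit [FaithfulSMul G Ω] in
theorem odd_fix {u : G} (hu : u * u = 1) : Odd (S.fixPts u).ncard := by
  haveI := S.finite_points
  have h := modEq_fixed_two (MulAction.toPerm (α := G) (β := Ω) u) (Equiv.ext fun x => by
    show u • u • x = x
    rw [← mul_smul, hu, one_smul])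
  have ho := Nat.odd_iff.1 S.odd_points
  rw [Nat.ModEq, ho] at h
  rw [Nat.odd_iff, h, ← Nat.card_coe_set_eq]
  rfl

omit [FaithfulSMul G Ω] in
theorem exists_common_fix (S : Hyp G Ω) {u i : G} (hu : u * u = 1) (hi : i * i = 1) (hc : Commute i u) :
    ∃ e : Ω, u • e = e ∧ i • e = e := by
  haveI := S.finite_points
  let σ : Equiv.Perm {x : Ω // u • x = x} :=
    { toFun := fun x => ⟨i • x.1, by rw [← mul_smul, ← hc.eq, mul_smul, x.2]⟩
      invFun := fun x => ⟨i • x.1, by rw [← mul_smul, ← hc.eq, mul_smul, x.2]⟩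
      left_inv := fun x => Subtype.ext (by show i • i • x.1 = x.1; rw [← mul_smul, hi, one_smul])
      right_inv := fun x => Subtype.ext (by show i • i • x.1 = x.1; rw [← mul_smul, hi, one_smul]) }
  have h := modEq_fixed_two σ (Equiv.ext fun x => Subtype.ext (by
    show i • i • x.1 = x.1
    rw [← mul_smul, hi, one_smul]))
  have ho := Nat.odd_iff.1 (S.odd_fix hu)
  rw [← Nat.card_coe_set_eq] at ho
  rw [Nat.ModEq, show Nat.card {x : Ω // u • x = x} % 2 = 1 from ho] at h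
  haveI : Nonempty {x // σ x = x} := (Nat.card_pos_iff.1 (Nat.pos_of_ne_zero fun e => by
    rw [e] at h; simp at h)).1
  obtain ⟨⟨x, hx⟩⟩ := ‹Nonempty {x // σ x = x}›
  exact ⟨x.1, x.2, congrArg Subtype.val hx⟩

/-- An involution none of whose conjugates is central in `P`. -/
def Tame (u : G) : Prop := u * u = 1 ∧ u ≠ 1 ∧ ∀ c, u ∉ S.Zat c

theorem tame_of_fix {u : G} (h2 : u * u = 1) (h1 : u ≠ 1) {x y : Ω} (hxy : x ≠ y) (hx : u • x = x)
    (hy : u • y = y) : S.Tame u :=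
  ⟨h2, h1, fun c h => hxy ((S.zat_free h hx).trans (S.zat_free h hy).symm)⟩

omit [FaithfulSMul G Ω] in
theorem comm_zat {u : G} (hu : u * u = 1) {e : Ω} (he : u • e = e) {j : G} (hj : j ∈ S.Zat e) :
    Commute u j :=
  S.two_comm he ⟨1, by rw [pow_one, pow_two, hu]⟩ hj

theorem tame_mul {u : G} (hu : S.Tame u) {e : Ω} (he : u • e = e) {j : G} (hj : j ∈ S.Zat e) :
    S.Tame (u * j) := by
  refine ⟨?_, fun h => ?_, fun c hc => ?_⟩
  · rw [mul_assoc, ← mul_assoc j, ← (S.comm_zat hu.1 he hj).eq, mul_assoc u, S.zat_sq hj, mul_one, hu.1]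
  · refine hu.2.2 e ?_
    rwa [← inv_of_sq hu.1, inv_eq_of_mul_eq_one_right h]
  · have hce : c = e := (S.zat_free hc (by rw [mul_smul, S.zat_fix hj, he])).symm
    subst hce
    have h := S.zat_mul hc hj (by rw [mul_assoc, S.zat_sq hj, mul_one]; exact hu.2.1)
    rw [mul_assoc, S.zat_sq hj, mul_one] at h
    exact hu.2.2 _ h

theorem cover_exists {u : G} (hu : S.Tame u) {d : Ω} (hd : u • d ≠ d) :
    ∃ e j, u • e = e ∧ j ∈ S.Zat e ∧ (u * j) • d = d := by
  obtain ⟨z, hz⟩ := S.exists_zat d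
  have huo := orderOf_eq_two_of hu.2.1 hu.1
  rcases Nat.even_or_odd (orderOf (z * u)) with hev | hodd
  swap
  · obtain ⟨g, -, hg⟩ := exists_conj_of_odd (S.zat_order hz) huo hodd
    have h := S.zat_cj hz g
    rw [show cj g z = u from hg] at h
    exact absurd h (hu.2.2 _)
  obtain ⟨hi, hiz, hiu⟩ := central_involution (S.zat_order hz) huo hev
  obtain ⟨k, hk⟩ := hev
  set r := z * u with hr
  set i := r ^ (orderOf r / 2) with hidef
  have hid : i • d = d := S.zat_free hz (by rw [← mul_smul, ← hiz.eq, mul_smul, S.zat_fix hz])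
  obtain ⟨e, hue, hie⟩ := S.exists_common_fix hu.1 (involution_sq hi) hiu
  have hed : e ≠ d := fun h => hd (h ▸ hue)
  have hconj : ∀ l : ℕ, cj (r ^ l) z = r ^ (2 * l) * z := fun l => by
    have h := mul_pair_zpow (S.zat_order hz) huo (-(l : ℤ))
    rw [neg_neg, ← hr, zpow_neg, zpow_natCast] at h
    rw [cj, mul_assoc, h, ← mul_assoc, ← pow_add, two_mul]
  have hdiv : orderOf r / 2 = k := by omega
  obtain ⟨l, hl | hl⟩ : ∃ l, k = 2 * l ∨ k = 2 * l + 1 := ⟨k / 2, by omega⟩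
  · exfalso
    have e1 : cj (r ^ l) z = i * z := by rw [hconj, hidef, hdiv, hl]
    have h1 : i * z ∈ S.Zat d := by
      rw [← e1]; exact S.zat_fixed hz (by rw [e1, mul_smul, S.zat_fix hz, hid])
    have h2 := S.zat_mul h1 hz (by rw [mul_assoc, S.zat_sq hz, mul_one]; exact
      CfsgLib.Signalizer.involution_ne_one hi)
    rw [mul_assoc, S.zat_sq hz, mul_one] at h2
    exact hed (S.zat_free h2 hie)
  · have e1 : cj (r ^ l) z = i * u := by
      rw [hconj, hidef, hdiv, hl, pow_succ, mul_assoc, hr, mul_assoc, hu.1, mul_one]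
    refine ⟨e, i * u, hue, by rw [← e1]; exact S.zat_fixed hz (by rw [e1, mul_smul, hue, hie]), ?_⟩
    rw [← mul_assoc, ← hiu.eq, mul_assoc, hu.1, mul_one, hid]

theorem cover_unique {u : G} (hu : u * u = 1) {d : Ω} (hd : u • d ≠ d) {e e' : Ω} {j j' : G}
    (he : u • e = e) (he' : u • e' = e') (hj : j ∈ S.Zat e) (hj' : j' ∈ S.Zat e')
    (h : (u * j) • d = d) (h' : (u * j') • d = d) : e = e' ∧ j = j' := by
  obtain ⟨z, hz⟩ := S.exists_zat d
  have main : ∀ {e : Ω} {j : G}, u • e = e → j ∈ S.Zat e → (u * j) • d = d →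
      ∃ k, Odd k ∧ (u * z) ^ k = u * j := by
    intro e j he hj h
    have hc := S.comm_zat hu he hj
    have hii : (u * j) * (u * j) = 1 := by
      rw [mul_assoc, ← mul_assoc j, ← hc.eq, mul_assoc u, S.zat_sq hj, mul_one, hu]
    have h1 : Commute (u * j) z := S.comm_zat hii h hz
    have h2 : Commute (u * j) (j * z) := (hc.mul_left (Commute.refl j)).mul_right h1
    have hodd := S.odd_mul (fun hed : e = d => hd (hed ▸ he)) hj hz
    refine ⟨orderOf (j * z), hodd, ?_⟩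
    rw [show u * z = u * j * (j * z) by rw [mul_assoc, ← mul_assoc j, S.zat_sq hj, one_mul],
      h2.mul_pow, pow_orderOf_eq_one, mul_one]
    obtain ⟨l, hl⟩ := hodd
    rw [hl, pow_succ, pow_mul, pow_two, hii, one_pow, one_mul]
  obtain ⟨k, hk, e1⟩ := main he hj h
  obtain ⟨k', hk', e2⟩ := main he' hj' h'
  have hs : ∀ {e : Ω} {j : G}, u • e = e → j ∈ S.Zat e → ∀ m, Odd m → (u * j) ^ m = u * j := by
    intro e j he hj m ⟨l, hl⟩
    have hc := S.comm_zat hu he hj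
    rw [hl, pow_succ, pow_mul, pow_two,
      show u * j * (u * j) = 1 by rw [mul_assoc, ← mul_assoc j, ← hc.eq, mul_assoc u, S.zat_sq hj,
        mul_one, hu], one_pow, one_mul]
  have e3 : u * j = u * j' := by
    rw [← hs he hj k' hk', ← e1, ← pow_mul, mul_comm k, pow_mul, e2, hs he' hj' k hk]
  have e4 := mul_left_cancel e3
  exact ⟨S.zat_inj hj (e4 ▸ hj'), e4⟩

/-- An involution outside the central ones fixes at least two points. -/
theorem exists_fix_ne {u : G} (hu : u * u = 1) (hu1 : u ≠ 1) {e : Ω} (he : u • e = e)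
    (hne : u ∉ S.Zat e) : ∃ x : Ω, x ≠ e ∧ u • x = x := by
  by_contra hcon
  push Not at hcon
  have only : ∀ x, u • x = x → x = e := fun x hx => by_contra fun h => hcon x h hx
  have hT : S.Tame u := ⟨hu, hu1, fun c hc => hne ((S.zat_free hc he) ▸ hc)⟩
  obtain ⟨d, hde⟩ : ∃ d, d ≠ e := by
    by_cases h : S.a = e
    · exact ⟨S.b, fun h' => S.ne (h.trans h'.symm)⟩
    · exact ⟨S.a, h⟩
  obtain ⟨e', j, he', hj, hjd⟩ := S.cover_exists hT (fun h => hde (only d h))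
  cases only e' he'
  set v := u * j with hv
  have hvT : S.Tame v := S.tame_mul hT he hj
  have hve : v • e = e := by rw [hv, mul_smul, S.zat_fix hj, he]
  -- `v` is covered from `e` alone
  have hcov : ∀ x : Ω, v • x ≠ x → ∃ k ∈ S.Zat e, (v * k) • x = x := by
    intro x hx
    obtain ⟨e'', k, he'', hk, hkx⟩ := S.cover_exists hT (fun h => hx (by rw [only x h, hve]))
    cases only e'' he''
    have hjk : j * k ≠ 1 := fun h => hx (by
      rw [hv, show j = k from ((inv_of_sq (S.zat_sq hj)).symm.trans (inv_eq_of_mul_eq_one_right h))]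
      exact hkx)
    refine ⟨j * k, S.zat_mul hj hk hjk, ?_⟩
    rw [hv, mul_assoc, ← mul_assoc j, S.zat_sq hj, one_mul, hkx]
  obtain ⟨j2, hj2⟩ := S.exists_zat d
  set i := v * j2 with hidef
  have hiT : S.Tame i := S.tame_mul hvT hjd hj2
  have hi_only : ∀ x, i • x = x → x = d := by
    intro x hx
    by_contra hxd
    by_cases hvx : v • x = x
    · refine hxd (S.zat_free hj2 ?_)
      rw [hidef, mul_smul] at hx
      exact smul_left_cancel v (hx.trans hvx.symm)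
    · obtain ⟨k, hk, hkx⟩ := hcov x hvx
      exact hde (S.cover_unique hvT.1 hvx hjd hve hj2 hk hx hkx).1
  obtain ⟨d0, hd0⟩ : ∃ d0, v • d0 ≠ d0 := by
    by_contra hall
    push Not at hall
    exact hvT.2.1 (eq_of_smul_eq_smul (α := Ω) fun x => by rw [one_smul, hall x])
  obtain ⟨e'', j3, he'', hj3, hj3d⟩ := S.cover_exists hiT (fun h => hd0 (by rw [hi_only d0 h, hjd]))
  cases hi_only e'' he''
  have e1 : (v * (j2 * j3)) • d0 = d0 := by rw [← mul_assoc, ← hidef]; exact hj3d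
  have hjj : j2 * j3 ≠ 1 := fun h => hd0 (by rwa [h, mul_one] at e1)
  obtain ⟨k, hk, hkd⟩ := hcov d0 hd0
  exact hde (S.cover_unique hvT.1 hd0 hjd hve (S.zat_mul hj2 hj3 hjj) hk e1 hkd).1

theorem exists_fix_other {u : G} (hu : S.Tame u) (e : Ω) : ∃ x, x ≠ e ∧ u • x = x := by
  obtain ⟨y, hy, -⟩ := S.exists_common_fix hu.1 hu.1 (Commute.refl u)
  by_cases h : y = e
  · exact S.exists_fix_ne hu.1 hu.2.1 (h ▸ hy) (hu.2.2 e)
  · exact ⟨y, h, hy⟩

variable [IsSimpleGroup G]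

theorem isConj_mul {u : G} (hu : S.Tame u) {e : Ω} (he : u • e = e) {j : G} (hj : j ∈ S.Zat e) :
    IsConj u (u * j) := by
  have base : ∀ {v : G}, S.Tame v → v • e = e → ∀ k ∈ S.Zat e, ∀ k' ∈ S.Zat e,
      IsConj (v * k) (v * k') := by
    intro v hv hve k hk k' hk'
    obtain ⟨x, hxe, hx⟩ := S.exists_fix_other hv e
    obtain ⟨l, hl⟩ := S.exists_zat x
    have step : ∀ k ∈ S.Zat e, IsConj (v * k) (v * l) := fun k hk => by
      obtain ⟨w, -, hwk, -, -, hwx⟩ := S.exists_mid hxe.symm hk hl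
      refine isConj_iff.2 ⟨w, ?_⟩
      show cj w (v * k) = v * l
      rw [cj_mul, hwk, cj_eq_iff.2 (hwx v (S.comm_zat hv.1 hve hk) (S.comm_zat hv.1 hx hl)).eq.symm]
    exact (step k hk).trans (step k' hk').symm
  obtain ⟨j0, hj0, hne⟩ := S.exists_other hj
  have hne' : j0 * j ≠ 1 := fun h => hne
    ((inv_of_sq (S.zat_sq hj0)).symm.trans (inv_eq_of_mul_eq_one_right h))
  have h := base (S.tame_mul hu he hj0) (by rw [mul_smul, S.zat_fix hj0, he]) j0 hj0 (j0 * j)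
    (S.zat_mul hj0 hj hne')
  rwa [mul_assoc, S.zat_sq hj0, mul_one, mul_assoc, ← mul_assoc j0, S.zat_sq hj0, one_mul] at h

omit [IsSimpleGroup G] in
theorem ncard_zat (c : Ω) : (S.Zat c).ncard = Nat.card S.Z - 1 := by
  obtain ⟨g, hg⟩ := S.exists_move_a c
  have e : S.Zat c = cj g '' ((S.Z : Set G) \ {1}) := by
    ext j
    rw [S.zat_iff hg]
    constructor
    · exact fun ⟨h1, h⟩ => ⟨_, ⟨h, fun e => h1 (cj_eq_one.1 e)⟩, cj_cancel g j⟩
    · rintro ⟨z, ⟨hz, hz1⟩, rfl⟩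
      exact ⟨fun e => hz1 (cj_eq_one.1 e), by rwa [cj_cancel']⟩
  rw [e, Set.ncard_image_of_injective _ (cj_injective g), Set.ncard_diff_singleton_of_mem (one_mem S.Z),
    ← Nat.card_coe_set_eq]
  rfl

/-- The count of the moved points. -/
theorem count {u : G} (hu : S.Tame u) :
    Nat.card Ω = (S.fixPts u).ncard +
      (S.fixPts u).ncard * ((Nat.card S.Z - 1) * ((S.fixPts u).ncard - 1)) := by
  classical
  haveI := S.finite_points
  haveI : Fintype Ω := Fintype.ofFinite Ω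
  set f := (S.fixPts u).ncard with hf
  rw [← Set.ncard_add_ncard_compl (S.fixPts u), ← hf]
  congr 1
  let T := Σ e : S.fixPts u, Σ j : S.Zat (e : Ω), ↥(S.fixPts (u * (j : G)) \ {(e : Ω)})
  have hmem : ∀ t : T, (t.2.2 : Ω) ∈ (S.fixPts u)ᶜ := fun t (h : u • (t.2.2 : Ω) = (t.2.2 : Ω)) => by
    refine t.2.2.2.2 (S.zat_free t.2.1.2 ?_)
    have h1 : (u * (t.2.1 : G)) • (t.2.2 : Ω) = (t.2.2 : Ω) := t.2.2.2.1
    rw [mul_smul] at h1
    exact smul_left_cancel u (h1.trans h.symm)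
  have hbij : Function.Bijective (fun t : T => (⟨(t.2.2 : Ω), hmem t⟩ : ↥(S.fixPts u)ᶜ)) := by
    constructor
    · rintro ⟨⟨e, he⟩, ⟨j, hj⟩, ⟨x, hx⟩⟩ ⟨⟨e', he'⟩, ⟨j', hj'⟩, ⟨x', hx'⟩⟩ h
      have hxx : x = x' := congrArg Subtype.val h
      subst hxx
      obtain ⟨rfl, rfl⟩ := S.cover_unique hu.1 (hmem ⟨⟨e, he⟩, ⟨j, hj⟩, ⟨x, hx⟩⟩) he he' hj hj' hx.1 hx'.1
      rfl
    · rintro ⟨d, hd⟩
      obtain ⟨e, j, he, hj, hjd⟩ := S.cover_exists hu hd
      exact ⟨⟨⟨e, he⟩, ⟨j, hj⟩, ⟨d, hjd, fun h => hd (h ▸ he)⟩⟩, rfl⟩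
  rw [← Nat.card_coe_set_eq, ← Nat.card_eq_of_bijective _ hbij, Nat.card_sigma]
  have hsz : ∀ e : S.fixPts u, ∀ j : S.Zat (e : Ω),
      Nat.card ↥(S.fixPts (u * (j : G)) \ {(e : Ω)}) = f - 1 := fun e j => by
    obtain ⟨g, hg⟩ := isConj_iff.1 (S.isConj_mul hu e.2 j.2)
    have e1 : S.fixPts (u * (j : G)) = (g • ·) '' S.fixPts u := by
      rw [← hg]
      ext x
      constructor
      · intro hx
        refine ⟨g⁻¹ • x, ?_, smul_inv_smul g x⟩
        show u • g⁻¹ • x = g⁻¹ • x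
        rw [eq_inv_smul_iff, ← mul_smul, ← mul_smul]
        exact hx
      · rintro ⟨y, hy, rfl⟩
        exact cj_smul_fix hy
    rw [Nat.card_coe_set_eq, Set.ncard_diff_singleton_of_mem (show (e : Ω) ∈ S.fixPts (u * (j : G)) by
      show (u * (j : G)) • (e : Ω) = e
      rw [mul_smul, S.zat_fix j.2]; exact e.2), e1,
      Set.ncard_image_of_injective _ (MulAction.injective g)]
  have hin : ∀ e : S.fixPts u, Nat.card (Σ j : S.Zat (e : Ω), ↥(S.fixPts (u * (j : G)) \ {(e : Ω)})) =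
      (Nat.card S.Z - 1) * (f - 1) := fun e => by
    haveI := Fintype.ofFinite (S.Zat (e : Ω))
    rw [Nat.card_sigma, Finset.sum_congr rfl (fun j _ => hsz e j), Finset.sum_const, Finset.card_univ,
      ← Nat.card_eq_fintype_card, Nat.card_coe_set_eq, S.ncard_zat, smul_eq_mul]
  rw [Finset.sum_congr rfl (fun e _ => hin e), Finset.sum_const, Finset.card_univ,
    ← Nat.card_eq_fintype_card, Nat.card_coe_set_eq, smul_eq_mul]

omit [FaithfulSMul G Ω] [IsSimpleGroup G] in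
theorem orbit_split {Y : Subgroup G} (hY : Y ≤ S.U) (x : Ω) :
    (MulAction.orbit Y x).ncard =
      (MulAction.orbit (Y ⊓ S.P : Subgroup G) x).ncard *
        (MulAction.orbit (Y ⊓ S.R : Subgroup G) x).ncard := by
  haveI := S.finite_points
  have split : ∀ X : Subgroup G, X ≤ S.U →
      Nat.card X = Nat.card (X ⊓ S.P : Subgroup G) * Nat.card (X ⊓ S.R : Subgroup G) := fun X hX => by
    rw [← Nat.card_prod]
    refine (Nat.card_eq_of_bijective (fun t : (X ⊓ S.P : Subgroup G) × (X ⊓ S.R : Subgroup G) =>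
      (⟨(t.1 : G) * t.2, mul_mem (Subgroup.mem_inf.1 t.1.2).1 (Subgroup.mem_inf.1 t.2.2).1⟩ : X))
      ⟨?_, fun y => ?_⟩).symm
    · rintro ⟨⟨p, hp⟩, ⟨r, hr⟩⟩ ⟨⟨p', hp'⟩, ⟨r', hr'⟩⟩ h
      have h0 : p * r = p' * r' := congrArg Subtype.val h
      have h1 : p'⁻¹ * p = r' * r⁻¹ := by rw [eq_mul_inv_iff_mul_eq, mul_assoc, h0, inv_mul_cancel_left]
      have h2 := S.eq_one_of_P_R (S.P.mul_mem (S.P.inv_mem hp'.2) hp.2)
        (h1 ▸ S.R.mul_mem hr'.2 (S.R.inv_mem hr.2))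
      have h3 : p' = p := inv_mul_eq_one.1 h2
      subst h3
      cases mul_left_cancel h0
      rfl
    · obtain ⟨p, hp, r, hr, hpX, hrX, e⟩ := S.parts (hX y.2) y.2
      exact ⟨⟨⟨p, hpX, hp⟩, ⟨r, hrX, hr⟩⟩, Subtype.ext e.symm⟩
  have h1 := orbit_card Y x
  have h2 := orbit_card (Y ⊓ S.P) x
  have h3 := orbit_card (Y ⊓ S.R) x
  rw [split Y hY, split _ (inf_le_left.trans hY), inf_right_comm Y _ S.P, inf_right_comm Y _ S.R,
    ← h2, ← h3] at h1
  have hpos : 0 < Nat.card (Y ⊓ S.P ⊓ MulAction.stabilizer G x : Subgroup G) *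
      Nat.card (Y ⊓ S.R ⊓ MulAction.stabilizer G x : Subgroup G) := Nat.mul_pos Nat.card_pos Nat.card_pos
  exact Nat.eq_of_mul_eq_mul_right hpos (h1.trans (by ring))

omit [FaithfulSMul G Ω] [IsSimpleGroup G] in
theorem orbit_P_pow {Y : Subgroup G} (hY : Y ≤ S.P) (x : Ω) : ∃ k, (MulAction.orbit Y x).ncard = 2 ^ k := by
  haveI := S.finite_points
  haveI := Fact.mk Nat.prime_two
  obtain ⟨n, hn⟩ := IsPGroup.iff_card.1 (S.P_two.to_le hY)
  obtain ⟨k, -, hk⟩ := (Nat.dvd_prime_pow Nat.prime_two).1 (hn ▸ Dvd.intro _ (orbit_card Y x))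
  exact ⟨k, hk⟩

omit [FaithfulSMul G Ω] [IsSimpleGroup G] in
theorem odd_orbit_R (x : Ω) : Odd (MulAction.orbit S.R x).ncard := by
  haveI := S.finite_points
  exact S.odd_R.of_dvd_nat (Dvd.intro _ (orbit_card S.R x))

omit [FaithfulSMul G Ω] [IsSimpleGroup G] in
theorem points_split {x : Ω} (hx : x ≠ S.a) :
    Nat.card Ω = (MulAction.orbit S.P x).ncard * (MulAction.orbit S.R x).ncard + 1 := by
  haveI := S.finite_points
  have h := S.orbit_split (Y := S.U) le_rfl x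
  rw [inf_eq_right.2 S.P_le, inf_eq_right.2 S.R_le] at h
  have e : MulAction.orbit S.U x = {S.a}ᶜ := by
    ext y
    constructor
    · rintro ⟨u, rfl⟩ (hu : (u : G) • x = S.a)
      exact hx (smul_left_cancel (u : G) (hu.trans (S.U_fix _ u.2).symm))
    · intro hy
      obtain ⟨u, hu, rfl⟩ := S.U_trans y hy
      obtain ⟨v, hv, rfl⟩ := S.U_trans x hx
      exact ⟨⟨u * v⁻¹, mul_mem hu (inv_mem hv)⟩, by show (u * v⁻¹) • v • S.b = _; rw [mul_smul, inv_smul_smul]⟩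
  rw [← h, e, ← Set.ncard_add_ncard_compl {S.a}, Set.ncard_singleton, add_comm]

theorem arith {q m f M v s : ℕ} (hq : ∃ k, 1 ≤ k ∧ q = 2 ^ k) (hm : Odd m) (hv : v = 2 ^ M * m + 1)
    (hcount : v = f + f * ((q - 1) * (f - 1))) (hf : f - 1 = q * m * s) (hf1 : 1 < f) : s = 1 := by
  obtain ⟨k, hk, rfl⟩ := hq
  have hs0 : s ≠ 0 := by rintro rfl; omega
  have hq2 : 2 ≤ 2 ^ k := le_trans (by norm_num) (Nat.pow_le_pow_right two_pos hk)
  set Q := 2 ^ k with hQ
  obtain ⟨Q', hQ'⟩ : ∃ Q', Q = Q' + 1 := ⟨Q - 1, by omega⟩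
  obtain ⟨F, hF⟩ : ∃ F, f = F + 1 := ⟨f - 1, by omega⟩
  rw [hF, Nat.add_sub_cancel] at hcount hf
  rw [hQ', Nat.add_sub_cancel] at hcount
  have key : 2 ^ M * m = (Q * s * (Q * (1 + Q' * m * s))) * m := by
    subst hv
    rw [hQ'] at hf ⊢
    rw [hf] at hcount
    nlinarith [hcount]
  have key' := Nat.eq_of_mul_eq_mul_right hm.pos key
  have hs : s ∣ 2 ^ M := ⟨Q * (Q * (1 + Q' * m * s)), by rw [key']; ring⟩
  have hE : 1 + Q' * m * s ∣ 2 ^ M := ⟨Q * s * Q, by rw [key']; ring⟩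
  obtain ⟨i, -, hi⟩ := (Nat.dvd_prime_pow Nat.prime_two).1 hs
  obtain ⟨i', -, hi'⟩ := (Nat.dvd_prime_pow Nat.prime_two).1 hE
  have hodd : Odd (Q' * m * s) := by
    have h2 : Even (1 + Q' * m * s) := by
      rw [hi']
      refine (Nat.even_pow.2 ⟨even_two, fun e => ?_⟩)
      rw [e, pow_zero] at hi'
      have : 0 < Q' * m * s := Nat.mul_pos (Nat.mul_pos (by omega) hm.pos) (Nat.pos_of_ne_zero hs0)
      omega
    rcases Nat.even_or_odd (Q' * m * s) with he | ho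
    · exact absurd h2 (Nat.not_even_iff_odd.2 (by rw [add_comm]; exact he.add_one))
    · exact ho
  rcases i with _ | i
  · simpa using hi
  · exfalso
    have : Even s := by rw [hi, pow_succ]; exact even_two.mul_left _
    exact Nat.not_even_iff_odd.2 hodd (this.mul_left _)

/-- The fixed point set of an involution of the two point stabiliser. -/
theorem fix_eq_line {u : G} (hu : u ∈ S.P) (h2 : u * u = 1) (h1 : u ≠ 1) (hb : u • S.b = S.b) :
    (∀ x, u • x = x ↔ x = S.a ∨ ∃ z ∈ S.Z, ∃ r ∈ S.R, (z * r) • S.b = x) ∧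
      ∀ p ∈ S.P, p * u = u * p → ∃ z ∈ S.Z, (z * p) • S.b = S.b := by
  classical
  haveI := S.finite_points
  haveI := Fact.mk Nat.prime_two
  have hua : u • S.a = S.a := S.U_fix _ (S.P_le hu)
  have hT := S.tame_of_fix h2 h1 S.ne hua hb
  set Y := S.U ⊓ Subgroup.centralizer ({u} : Set G) with hYdef
  have hmemY : ∀ {y : G}, y ∈ Y ↔ y ∈ S.U ∧ Commute y u := fun {y} => by
    rw [hYdef, Subgroup.mem_inf, Subgroup.mem_centralizer_singleton_iff]; rfl
  have hRY : Y ⊓ S.R = S.R := inf_eq_right.2 fun r hr => hmemY.2 ⟨S.R_le hr, (S.comm hu hr).symm⟩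
  set X := S.fixPts u \ {S.a} with hX
  have hinv : ∀ y ∈ Y, ∀ x ∈ X, y • x ∈ X := fun y hy x hx => by
    obtain ⟨hyU, hyu⟩ := hmemY.1 hy
    refine ⟨?_, fun (e : y • x = S.a) => hx.2 (smul_left_cancel y (e.trans (S.U_fix y hyU).symm))⟩
    show u • y • x = y • x
    rw [← mul_smul, ← hyu.eq, mul_smul, hx.1]
  set q := Nat.card S.Z with hq
  have hZdvd : ∀ x, x ≠ S.a → q ∣ (MulAction.orbit (Y ⊓ S.P : Subgroup G) x).ncard := by
    intro x hx
    refine dvd_of_orbits S.Z _ ?_ ?_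
    · rintro z hz _ ⟨y, rfl⟩
      exact ⟨⟨z, hmemY.2 ⟨S.P_le (S.Z_le hz), S.Z_comm_P hz hu⟩, S.Z_le hz⟩ * y, mul_smul z (y : G) x⟩
    · rintro _ ⟨y, rfl⟩
      have h := orbit_card S.Z ((y : G) • x)
      rw [show (S.Z ⊓ MulAction.stabilizer G ((y : G) • x)) = ⊥ from eq_bot_iff.2 fun z hz =>
        Subgroup.mem_bot.2 (S.Z_free hz.1 (fun e => hx (smul_left_cancel (y : G)
          (e.trans (S.U_fix _ (S.P_le y.2.2)).symm))) hz.2), Subgroup.card_bot, mul_one] at h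
      exact dvd_of_eq h.symm
  obtain ⟨M, hM⟩ := S.orbit_P_pow le_rfl S.b
  set m := (MulAction.orbit S.R S.b).ncard with hm
  have hmodd : Odd m := S.odd_orbit_R S.b
  have hv : Nat.card Ω = 2 ^ M * m + 1 := by rw [S.points_split (Ne.symm S.ne), hM]
  have hmx : ∀ x, x ≠ S.a → (MulAction.orbit S.R x).ncard = m := fun x hx => by
    obtain ⟨M', hM'⟩ := S.orbit_P_pow le_rfl x
    have h := S.points_split hx
    rw [hM', hv, Nat.add_right_cancel_iff] at h
    have hcop : ∀ {i j : ℕ}, Odd j → Nat.Coprime j (2 ^ i) := fun hj =>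
      Nat.Coprime.pow_right _ (Nat.coprime_two_right.2 hj)
    exact Nat.dvd_antisymm ((hcop (S.odd_orbit_R x)).dvd_of_dvd_mul_left (Dvd.intro_left _ h.symm))
      ((hcop hmodd).dvd_of_dvd_mul_left (Dvd.intro_left _ h))
  have horb : ∀ x ∈ X, q * m ∣ (MulAction.orbit Y x).ncard := fun x hx => by
    rw [S.orbit_split inf_le_left x, hRY, hmx x hx.2]
    exact Nat.mul_dvd_mul_right (hZdvd x hx.2) m
  obtain ⟨s, hs⟩ := dvd_of_orbits Y X hinv horb
  have hXf : X.ncard = (S.fixPts u).ncard - 1 := Set.ncard_diff_singleton_of_mem hua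
  have hbX : S.b ∈ X := ⟨hb, Ne.symm S.ne⟩
  have hXpos : 0 < X.ncard := (Set.ncard_pos (Set.toFinite _)).2 ⟨S.b, hbX⟩
  have hqpow : ∃ k, 1 ≤ k ∧ q = 2 ^ k := by
    obtain ⟨k, hk⟩ := IsPGroup.iff_card.1 (S.P_two.to_le S.Z_le)
    refine ⟨k, Nat.pos_of_ne_zero fun e => ?_, hk⟩
    obtain ⟨j, hj⟩ := S.exists_zat S.a
    obtain ⟨hj1, hjZ⟩ := S.zat_a.1 hj
    have : S.Z = ⊥ := Subgroup.card_eq_one.1 (by rw [hk, e, pow_zero])
    exact hj1 (Subgroup.mem_bot.1 (this ▸ hjZ))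
  have hs1 : s = 1 := arith hqpow hmodd hv (S.count hT) (hXf ▸ hs) (by omega)
  rw [hs1, mul_one] at hs
  have hsub : MulAction.orbit Y S.b ⊆ X := by
    rintro _ ⟨y, rfl⟩; exact hinv _ y.2 _ hbX
  have hYb : MulAction.orbit Y S.b = X := by
    refine Set.eq_of_subset_of_ncard_le hsub ?_ (Set.toFinite _)
    rw [hs]
    exact Nat.le_of_dvd ((Set.ncard_pos (Set.toFinite _)).2 ⟨S.b, MulAction.mem_orbit_self _⟩) (horb _ hbX)
  have hP : (MulAction.orbit (Y ⊓ S.P : Subgroup G) S.b).ncard = q := by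
    have h := S.orbit_split (Y := Y) inf_le_left S.b
    rw [hRY, hYb, hs, ← hm] at h
    exact (Nat.eq_of_mul_eq_mul_right hmodd.pos h).symm
  have hZb : (· • S.b) '' (S.Z : Set G) = MulAction.orbit (Y ⊓ S.P : Subgroup G) S.b := by
    refine Set.eq_of_subset_of_ncard_le ?_ ?_ (Set.toFinite _)
    · rintro _ ⟨z, hz, rfl⟩
      exact ⟨⟨z, hmemY.2 ⟨S.P_le (S.Z_le hz), S.Z_comm_P hz hu⟩, S.Z_le hz⟩, rfl⟩
    · rw [hP, Set.ncard_image_of_injOn, ← Nat.card_coe_set_eq]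
      · rfl
      · intro z hz z' hz' (e : z • S.b = z' • S.b)
        refine (inv_mul_eq_one.1 (S.Z_free (mul_mem (inv_mem hz') hz) (Ne.symm S.ne) ?_)).symm
        rw [mul_smul, e, inv_smul_smul]
  have hcent : ∀ p ∈ S.P, p * u = u * p → ∃ z ∈ S.Z, (z * p) • S.b = S.b := by
    intro p hp hpu
    have hmem : p • S.b ∈ (· • S.b) '' (S.Z : Set G) :=
      hZb ▸ ⟨⟨p, hmemY.2 ⟨S.P_le hp, hpu⟩, hp⟩, rfl⟩
    obtain ⟨z, hz, e : z • S.b = p • S.b⟩ := hmem
    exact ⟨z, hz, by rw [mul_smul, ← e, ← mul_smul, S.Z_sq hz, one_smul]⟩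
  refine ⟨fun x => ⟨fun hx => ?_, ?_⟩, hcent⟩
  · by_cases hxa : x = S.a
    · exact Or.inl hxa
    refine Or.inr ?_
    have hxY : x ∈ MulAction.orbit Y S.b := hYb ▸ ⟨hx, hxa⟩
    obtain ⟨⟨y, hy⟩, rfl⟩ := hxY
    obtain ⟨hyU, hyu⟩ := hmemY.1 hy
    obtain ⟨p, hp, r, hr, hpY, -, rfl⟩ := S.parts hyU hy
    obtain ⟨z, hz, hzp⟩ := hcent p hp (hmemY.1 hpY).2.eq
    refine ⟨z, hz, r, hr, ?_⟩
    show (z * r) • S.b = (p * r) • S.b
    have hpz : p • S.b = z • S.b :=
      smul_left_cancel z (by rw [← mul_smul, hzp, ← mul_smul, S.Z_sq hz, one_smul])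
    rw [(S.comm hp hr).eq, mul_smul r p, hpz, ← mul_smul, (S.comm (S.Z_le hz) hr).eq]
  · rintro (rfl | ⟨z, hz, r, hr, rfl⟩)
    · exact hua
    · rw [← mul_smul, ← mul_assoc, ← (S.Z_comm_P hz hu).eq, mul_assoc, (S.comm hu hr).eq, ← mul_assoc,
        mul_smul, hb]

end Hyp

end CfsgLib.LocalEvenB.SplitOdd
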