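import Cfsg.Agent.Lib.LocalEvenB.SplitOdd.Regular
import Cfsg.Agent.Lib.Lie.RankOneClass.Regular
import Cfsg.Agent.S0322

/-!
Owner: helper20. A simple group with a strongly split `(B, N)`-pair of rank one, `[G : B]` and
`|B ⊓ N|` odd: `B` is strongly embedded and `U` is regular on the other cosets.
-/

set_option autoImplicit false
set_option linter.all false

namespace CfsgLib.LocalEvenB.SplitOdd

open CfsgLib.LocalEvenB.OddUnitary (cj cj_mul cj_inv cj_cj cj_one_left cj_one cj_pow cj_eq_one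
  cj_eq_iff cj_injective)
open scoped Pointwise

universe u

theorem nonempty_hyp {G : Type u} [Group G] [Finite G] [IsSimpleGroup G]
    (P : Cfsg.BNPair G) (hrank : P.rank = 1) (U : Subgroup G) (hUB : U ≤ P.B)
    (hUn : (U.subgroupOf P.B).Normal) (hUnil : Group.IsNilpotent U) (hsplit : U ⊔ (P.B ⊓ P.N) = P.B)
    (hind : Odd P.B.index) (hH : Odd (Nat.card ↥(P.B ⊓ P.N))) :
    FaithfulSMul G (G ⧸ P.B) ∧
      ∃ S : Hyp G (G ⧸ P.B), S.U = U ∧ S.a = ((1 : G) : G ⧸ P.B) := by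
  classical
  set H := P.B ⊓ P.N with hHdef
  have hUn' : ∀ b ∈ P.B, ∀ u ∈ U, b * u * b⁻¹ ∈ U := fun b hb u hu => by
    have := hUn.conj_mem ⟨u, hUB hu⟩ (Subgroup.mem_subgroupOf.2 hu) ⟨b, hb⟩
    simpa [Subgroup.mem_subgroupOf] using this
  haveI h2t := Cfsg.Agent.S0322.result P hrank
  rw [MulAction.is_two_pretransitive_iff] at h2t
  obtain ⟨w, hwN, hwB⟩ : ∃ w ∈ P.N, w ∉ P.B := by
    haveI : Nonempty P.S := (Nat.card_pos_iff.1 (by
      rw [show Nat.card P.S = 1 from hrank]; exact one_pos)).1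
    obtain ⟨⟨s, hs⟩⟩ := (inferInstance : Nonempty P.S)
    refine ⟨s, P.subset hs, fun hsB => P.conj_ne s hs ?_⟩
    ext g
    constructor
    · rintro ⟨b, hb, rfl⟩
      exact mul_mem (mul_mem hsB hb) hsB
    · exact fun hg => ⟨s⁻¹ * g * s⁻¹, mul_mem (mul_mem (inv_mem hsB) hg) (inv_mem hsB), by group⟩
  let a : G ⧸ P.B := ((1 : G) : G ⧸ P.B)
  let b : G ⧸ P.B := ((w : G) : G ⧸ P.B)
  have hfix : ∀ g : G, g • a = a ↔ g ∈ P.B := fun g => by
    show ((g * 1 : G) : G ⧸ P.B) = ((1 : G) : G ⧸ P.B) ↔ _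
    rw [QuotientGroup.eq, mul_one, mul_one]
    exact inv_mem_iff
  have hab : a ≠ b := fun e => hwB (by
    have := QuotientGroup.eq.1 e
    rwa [inv_one, one_mul] at this)
  have hHb : ∀ h ∈ H, h • b = b := fun h hh => by
    show ((h * w : G) : G ⧸ P.B) = ((w : G) : G ⧸ P.B)
    rw [QuotientGroup.eq]
    have := P.conj_mem w⁻¹ (inv_mem hwN) h⁻¹ (inv_mem hh)
    rw [inv_inv] at this
    rwa [mul_inv_rev]
  have hnorm : H ≤ Subgroup.normalizer (U : Set G) := fun h hh => by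
    rw [Subgroup.mem_normalizer_iff]
    exact fun u => ⟨fun hu => hUn' h hh.1 u hu, fun hu => by
      have := hUn' h⁻¹ (inv_mem hh.1) _ hu
      rwa [show h⁻¹ * (h * u * h⁻¹) * h⁻¹⁻¹ = u by group] at this⟩
  have hcoe : (P.B : Set G) = (U : Set G) * (H : Set G) := by
    rw [← hsplit, Subgroup.coe_mul_of_right_le_normalizer_left U H hnorm]
  have hdec : ∀ g ∈ P.B, ∃ u ∈ U, ∃ h ∈ H, g = u * h := fun g hg => by
    rw [← SetLike.mem_coe, hcoe] at hg
    obtain ⟨u, hu, h, hh, e⟩ := hg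
    exact ⟨u, hu, h, hh, e.symm⟩
  -- the index of `U` is odd
  have hUodd : Odd U.index := by
    rw [← Subgroup.relIndex_mul_index hUB]
    refine Odd.mul ?_ hind
    haveI := hUn
    let φ : H →* P.B ⧸ U.subgroupOf P.B :=
      (QuotientGroup.mk' (U.subgroupOf P.B)).comp (Subgroup.inclusion (inf_le_left : H ≤ P.B))
    have hφ : Function.Surjective φ := fun x => by
      obtain ⟨⟨g, hg⟩, rfl⟩ := QuotientGroup.mk'_surjective _ x
      obtain ⟨u, hu, h, hh, rfl⟩ := hdec g hg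
      refine ⟨⟨h, hh⟩, (QuotientGroup.eq.2 ?_)⟩
      rw [Subgroup.mem_subgroupOf]
      show h⁻¹ * (u * h) ∈ U
      have := hUn' h⁻¹ (inv_mem hh.1) u hu
      rwa [inv_inv, mul_assoc] at this
    show Odd (U.subgroupOf P.B).index
    rw [Subgroup.index_eq_card]
    exact hH.of_dvd_nat (Subgroup.card_dvd_of_surjective φ hφ)
  -- the two parts of `U`
  haveI : Fact (Nat.Prime 2) := ⟨Nat.prime_two⟩
  let Ps : Sylow 2 U := default
  haveI := hUnil
  haveI hPn : (Ps : Subgroup U).Normal := inferInstance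
  have hPmem : ∀ x : U, (∃ k, x ^ 2 ^ k = 1) → x ∈ (Ps : Subgroup U) := fun x ⟨k, hk⟩ => by
    have hz : IsPGroup 2 (Subgroup.zpowers x) := fun z => by
      obtain ⟨z, hz⟩ := z
      obtain ⟨i, rfl⟩ := Subgroup.mem_zpowers_iff.1 hz
      refine ⟨k, Subtype.ext ?_⟩
      show (x ^ i) ^ 2 ^ k = 1
      rw [← zpow_natCast, ← zpow_mul, mul_comm, zpow_mul, zpow_natCast, hk, one_zpow]
    obtain ⟨Q', hQ'⟩ := hz.exists_le_sylow
    haveI := Sylow.unique_of_normal Ps hPn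
    rw [Subsingleton.elim Q' Ps] at hQ'
    exact hQ' (Subgroup.mem_zpowers _)
  obtain ⟨R0, hR0⟩ := Subgroup.exists_right_complement'_of_coprime Ps.card_coprime_index
  have hR0odd : Odd (Nat.card R0) := by
    rw [← hR0.symm.index_eq_card]
    exact Nat.not_even_iff_odd.1 fun h => Ps.not_dvd_index h.two_dvd
  have hmemR : ∀ x : U, Odd (orderOf x) → x ∈ R0 := fun x hx => by
    obtain ⟨⟨⟨p, hp⟩, ⟨r, hr⟩⟩, e⟩ := hR0.2 x
    have e' : p * r = x := e
    obtain ⟨k, hk⟩ := Ps.2 ⟨p, hp⟩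
    have hk' : p ^ 2 ^ k = 1 := congrArg Subtype.val hk
    have hcop : Nat.Coprime (orderOf p) (orderOf r) :=
      Nat.Coprime.coprime_dvd_left (orderOf_dvd_of_pow_eq_one hk') (Nat.Coprime.pow_left k
        (Nat.coprime_two_left.2 (hR0odd.of_dvd_nat (Subgroup.orderOf_dvd_natCard R0 hr))))
    have hc : Commute p r := CfsgLib.OddLocal.commute_of_coprime_orderOf hUnil hcop
    have hdvd : orderOf p ∣ orderOf x := by
      rw [← e', hc.orderOf_mul_eq_mul_orderOf_of_coprime hcop]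
      exact Dvd.intro _ rfl
    have hp1 : p = 1 := orderOf_eq_one_iff.1 (Nat.eq_one_of_dvd_coprimes
      (Nat.Coprime.pow_left k (Nat.coprime_two_left.2 hx)) (orderOf_dvd_of_pow_eq_one hk') hdvd)
    rwa [← e', hp1, one_mul]
  have hUtr : ∀ x : G ⧸ P.B, x ≠ a → ∃ u ∈ U, u • b = x := fun x hx => by
    obtain ⟨g, ga, gb⟩ := h2t hab (Ne.symm hx)
    obtain ⟨u, hu, h, hh, rfl⟩ := hdec g ((hfix g).1 ga)
    exact ⟨u, hu, by rwa [mul_smul, hHb h hh] at gb⟩
  constructor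
  · rcases (MulAction.toPermHom G (G ⧸ P.B)).normal_ker.eq_bot_or_eq_top with h | h
    · exact ⟨fun {g g'} hg => MonoidHom.ker_eq_bot_iff _ |>.1 h (Equiv.ext hg)⟩
    · exfalso
      obtain ⟨g, ga, -⟩ := h2t hab (Ne.symm hab)
      have : MulAction.toPermHom G (G ⧸ P.B) g = 1 := h.symm.le (Subgroup.mem_top g)
      exact hab ((congrArg (fun e : Equiv.Perm (G ⧸ P.B) => e a) this).symm.trans ga)
  exact ⟨{ a := a, b := b, U := U, P := (Ps : Subgroup U).map U.subtype, R := R0.map U.subtype, H := H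
           ne := hab
           two := fun x y hxy => h2t hab hxy
           odd_points := hind
           P_le := Subgroup.map_subtype_le _
           R_le := Subgroup.map_subtype_le _
           U_fix := fun u hu => (hfix u).2 (hUB hu)
           U_norm := fun g hg u hu => hUn' g ((hfix g).1 hg) u hu
           U_trans := hUtr
           nilp := hUnil
           P_two := Ps.2.map _
           P_index := by
             rw [Subgroup.index_map_subtype]
             exact fun h => (Nat.prime_two.dvd_mul.1 h).elim Ps.not_dvd_index hUodd.not_two_dvd_nat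
           P_norm := by
             rintro g hg _ ⟨x, hx, rfl⟩
             obtain ⟨k, hk⟩ := Ps.2 ⟨x, hx⟩
             have hk' : x ^ 2 ^ k = 1 := congrArg Subtype.val hk
             exact ⟨⟨cj g x, hUn' g ((hfix g).1 hg) _ x.2⟩, hPmem _ ⟨k, Subtype.ext (by
               show (cj g (x : G)) ^ 2 ^ k = 1
               rw [← cj_pow, show ((x : G)) ^ 2 ^ k = 1 from congrArg Subtype.val hk', cj_one])⟩, rfl⟩
           odd_R := by
             rwa [← Nat.card_congr (Subgroup.equivMapOfInjective R0 U.subtype U.subtype_injective).toEquiv]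
           mem_R := fun x hx hxo => ⟨⟨x, hx⟩, hmemR _ (by rwa [Subgroup.orderOf_mk]), rfl⟩
           H_fix := fun h hh => ⟨(hfix h).2 hh.1, hHb h hh⟩
           odd_H := hH
           stab := fun g hg => hdec g ((hfix g).1 hg) }, rfl, rfl⟩

theorem classify {G : Type u} [Group G] [Finite G] [IsSimpleGroup G]
    (P : Cfsg.BNPair G) (hrank : P.rank = 1) (U : Subgroup G) (hUB : U ≤ P.B)
    (hUn : (U.subgroupOf P.B).Normal) (hUnil : Group.IsNilpotent U) (hsplit : U ⊔ (P.B ⊓ P.N) = P.B)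
    (hind : Odd P.B.index) (hH : Odd (Nat.card ↥(P.B ⊓ P.N))) :
    (∃ (F : Type) (_ : Field F) (_ : Fintype F), (∃ n : ℕ, 2 ≤ n ∧ Fintype.card F = 2 ^ n) ∧
        Nonempty (G ≃* Matrix.ProjectiveSpecialLinearGroup (Fin 2) F)) ∨
      Cfsg.IsSuzuki G ∨
      (∃ (F : Type) (_ : Field F) (_ : Fintype F) (n : ℕ), 2 ≤ n ∧ Fintype.card F = (2 ^ n) ^ 2 ∧
        Nonempty (G ≃* Cfsg.PSU 3 F (2 ^ n))) := by
  obtain ⟨hf, S, hSU, hSa⟩ := nonempty_hyp P hrank U hUB hUn hUnil hsplit hind hH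
  haveI := hf
  subst hSU
  have hfix : ∀ g : G, g • S.a = S.a ↔ g ∈ P.B := fun g => by
    rw [hSa, MulAction.Quotient.smul_coe, smul_eq_mul, QuotientGroup.eq, mul_one, mul_one]
    exact inv_mem_iff
  have hne : ∀ g : G, g ∉ P.B → ((g : G) : G ⧸ P.B) ≠ S.a := fun g hg e => hg (by
    rw [hSa, QuotientGroup.eq, mul_one] at e
    exact inv_mem_iff.1 e)
  have hB : Cfsg.IsStronglyEmbedded P.B := by
    refine ⟨fun h => S.ne ?_, ?_, fun g hg => ?_⟩
    · obtain ⟨g, ga, -⟩ := S.two S.b S.a S.ne.symm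
      exact ((hfix g).2 (h ▸ Subgroup.mem_top g)).symm.trans ga
    · obtain ⟨z, hz⟩ := S.exists_zat S.a
      have hzB : z ∈ P.B := (hfix z).1 (S.zat_fix hz)
      exact even_iff_two_dvd.2 (S.zat_order hz ▸ Subgroup.orderOf_dvd_natCard P.B hzB)
    · have hne' : S.a ≠ g • S.a := fun e => hg ((hfix g).1 e.symm)
      refine (S.odd_stab_stab hne').of_dvd_nat (Subgroup.card_dvd_of_le ?_)
      rintro x ⟨hx, y, hy, rfl⟩
      exact Subgroup.mem_inf.2 ⟨(hfix _).2 hx, cj_smul_fix (g := g) ((hfix y).2 hy)⟩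
  refine CfsgLib.Lie.RankOneClass.classify_regular P.B hB S.U hUB hUn ?_ ?_
  · intro g₁ g₂ h₁ h₂
    obtain ⟨u, hu, e1⟩ := S.U_trans _ (hne g₁ h₁)
    obtain ⟨v, hv, e2⟩ := S.U_trans _ (hne g₂ h₂)
    refine ⟨v * u⁻¹, mul_mem hv (inv_mem hu), QuotientGroup.eq.1 ?_⟩
    show ((g₂ : G) : G ⧸ P.B) = (v * u⁻¹) • ((g₁ : G) : G ⧸ P.B)
    rw [mul_smul, ← e1, inv_smul_smul, e2]
  · intro g hg u hu h
    refine S.free_at hu (hne g hg) ?_
    exact (QuotientGroup.eq.2 h).symm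

end CfsgLib.LocalEvenB.SplitOdd
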