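import Cfsg.Agent.Lib.LocalEvenB.SplitOdd.TwoPart

/-!
Owner: helper20. The odd part of `U` in a two point stabiliser lies in the other `U`: the intersection
of two conjugates of `U` is the whole two point stabiliser in `U`.
-/

set_option autoImplicit false
set_option linter.all false

namespace CfsgLib.LocalEvenB.SplitOdd

open CfsgLib.LocalEvenB.OddUnitary (cj cj_mul cj_inv cj_cj cj_one_left cj_one cj_pow cj_eq_one
  cj_eq_iff cj_injective)

/-- Two commuting endomorphisms generating an elementary group of order `p^2` cannot act freely. -/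
theorem pow_eq_one_of_free {A : Type*} [CommGroup A] {p : ℕ} (α β : Monoid.End A)
    (hc : Commute α β) (hα : α ^ p = 1) (hβ : β ^ p = 1)
    (hfix : ∀ z, (∀ i, 0 < i → i < p → (β ^ i) z = z → z = 1) ∧ ∀ i, i < p → (α * β ^ i) z = z → z = 1)
    (z : A) : z ^ p = 1 := by
  classical
  rcases Nat.eq_zero_or_pos p with rfl | hp
  · rw [pow_zero]
  have hnorm : ∀ γ : Monoid.End A, γ ^ p = 1 → γ (∏ k ∈ Finset.range p, (γ ^ k) z) =
      ∏ k ∈ Finset.range p, (γ ^ k) z := by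
    intro γ hγ
    rw [map_prod]
    have e : ∀ k, γ ((γ ^ k) z) = (γ ^ (k + 1)) z := fun k => by rw [pow_succ']; rfl
    simp only [e]
    have h1 := Finset.prod_range_succ' (fun k => (γ ^ k) z) p
    have h2 := Finset.prod_range_succ (fun k => (γ ^ k) z) p
    rw [h1, show (γ ^ p) z = (γ ^ 0) z by rw [hγ, pow_zero]] at h2
    exact mul_right_cancel h2
  have hline : ∀ i, i < p → ∏ k ∈ Finset.range p, ((α * β ^ i) ^ k) z = 1 := fun i hi =>
    (hfix _).2 i hi (hnorm _ (by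
      rw [(hc.pow_right i).mul_pow, hα, ← pow_mul, mul_comm i, pow_mul, hβ, one_pow, one_mul]))
  have hb : ∀ k, 0 < k → k < p → ∏ i ∈ Finset.range p, ((β ^ k) ^ i) z = 1 := fun k hk hkp =>
    (hfix _).1 k hk hkp (hnorm _ (by rw [← pow_mul, mul_comm k, pow_mul, hβ, one_pow]))
  have h0 : ∏ k ∈ Finset.range p, ∏ i ∈ Finset.range p, ((α * β ^ i) ^ k) z = 1 := by
    rw [Finset.prod_comm]
    exact Finset.prod_eq_one fun i hi => hline i (Finset.mem_range.1 hi)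
  rw [Finset.prod_eq_single 0] at h0
  · simpa using h0
  · intro k hk hk0
    have e : ∀ i, ((α * β ^ i) ^ k) z = (α ^ k) (((β ^ k) ^ i) z) := fun i => by
      rw [(hc.pow_right i).mul_pow, ← pow_mul, mul_comm i, pow_mul]; rfl
    rw [Finset.prod_congr rfl (fun i _ => e i), ← map_prod, hb k (Nat.pos_of_ne_zero hk0) (Finset.mem_range.1 hk),
      map_one]
  · intro h; exact absurd (Finset.mem_range.2 hp) h

namespace Hyp

variable {G Ω : Type*} [Group G] [MulAction G Ω] [Finite G] [FaithfulSMul G Ω] (S : Hyp G Ω)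

/-- A choice of an element moving `a` to a point. -/
noncomputable def mv (c : Ω) : G := (S.exists_move_a c).choose

omit [FaithfulSMul G Ω] in
theorem mv_spec (c : Ω) : S.mv c • S.a = c := (S.exists_move_a c).choose_spec

/-- The conjugate of `U` at a point. -/
noncomputable def Uat (c : Ω) : Subgroup G := S.U.comap (MulAut.conj (S.mv c)⁻¹).toMonoidHom

omit [FaithfulSMul G Ω] in
theorem uat_iff {c : Ω} {g : G} (hg : g • S.a = c) {x : G} : x ∈ S.Uat c ↔ cj g⁻¹ x ∈ S.U := by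
  show cj (S.mv c)⁻¹ x ∈ S.U ↔ _
  have key : ∀ g g' : G, g • S.a = c → g' • S.a = c → cj g⁻¹ x ∈ S.U → cj g'⁻¹ x ∈ S.U := by
    intro g g' h h' hx
    have := S.U_norm (g'⁻¹ * g) (by rw [mul_smul, h, ← h', inv_smul_smul]) _ hx
    rwa [← cj_cj, cj_cancel] at this
  exact ⟨key _ _ (S.mv_spec c) hg, key _ _ hg (S.mv_spec c)⟩

omit [FaithfulSMul G Ω] in
theorem uat_a : S.Uat S.a = S.U := by
  ext x
  rw [S.uat_iff (one_smul G S.a), inv_one, cj_one_left]

omit [FaithfulSMul G Ω] in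
theorem uat_cj {c : Ω} {x : G} (hx : x ∈ S.Uat c) (g : G) : cj g x ∈ S.Uat (g • c) := by
  rw [S.uat_iff (show (g * S.mv c) • S.a = g • c by rw [mul_smul, S.mv_spec]), mul_inv_rev, ← cj_cj,
    cj_cancel']
  exact hx

omit [FaithfulSMul G Ω] in
theorem uat_fix {c : Ω} {x : G} (hx : x ∈ S.Uat c) : x • c = c := by
  have h := cj_smul_fix (g := S.mv c) (S.U_fix _ ((S.uat_iff (S.mv_spec c)).1 hx))
  rwa [cj_cancel, S.mv_spec] at h

omit [FaithfulSMul G Ω] in
theorem uat_comm {c : Ω} {x j : G} (hx : x ∈ S.Uat c) (hj : j ∈ S.Zat c) : Commute x j := by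
  have h := cj_commute (g := S.mv c) (S.Z_comm_U ((S.zat_iff (S.mv_spec c)).1 hj).2
    ((S.uat_iff (S.mv_spec c)).1 hx)).symm
  rwa [cj_cancel, cj_cancel] at h

omit [FaithfulSMul G Ω] in
theorem card_uat_inf {c d : Ω} (h : c ≠ d) :
    Nat.card (S.Uat c ⊓ S.Uat d : Subgroup G) = Nat.card (S.U ⊓ S.Uat S.b : Subgroup G) := by
  obtain ⟨g, ga, gb⟩ := S.two c d h
  refine Nat.card_congr
    { toFun := fun x => ⟨cj g⁻¹ x, ?_, ?_⟩
      invFun := fun x => ⟨cj g x, ?_, ?_⟩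
      left_inv := fun x => Subtype.ext (cj_cancel g x)
      right_inv := fun x => Subtype.ext (cj_cancel' g x) }
  · exact (S.uat_iff ga).1 x.2.1
  · have := S.uat_cj x.2.2 g⁻¹
    have e : g⁻¹ • d = S.b := by rw [inv_smul_eq_iff, gb]
    rwa [e] at this
  · exact (S.uat_iff ga).2 (by rw [cj_cancel']; exact x.2.1)
  · have := S.uat_cj x.2.2 g
    rwa [gb] at this

theorem uat_of_comm {x : G} {c d : Ω} (hcd : c ≠ d) (hx : x ∈ S.Uat c) {j : G} (hj : j ∈ S.Zat d)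
    (h : Commute x j) : x ∈ S.Uat d := by
  obtain ⟨z, hz⟩ := S.exists_zat c
  obtain ⟨w, hw, -, hwc, -, hwx⟩ := S.exists_mid hcd hz hj
  have h1 := S.uat_cj hx w
  rwa [hwc, cj_eq_iff.2 (hwx x (S.uat_comm hx hz) h).eq.symm] at h1

/-- The intersection with the other conjugate. -/
noncomputable def X0 : Subgroup G := S.U ⊓ S.Uat S.b

omit [FaithfulSMul G Ω] in
theorem X0_fix {x : G} (hx : x ∈ S.X0) : x • S.a = S.a ∧ x • S.b = S.b :=
  ⟨S.U_fix x hx.1, S.uat_fix hx.2⟩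

omit [FaithfulSMul G Ω] in
theorem inf_eq_X0 {c d : Ω} (hcd : c ≠ d) (hc : S.X0 ≤ S.Uat c) (hd : S.X0 ≤ S.Uat d) :
    S.Uat c ⊓ S.Uat d = S.X0 :=
  (Subgroup.eq_of_le_of_card_ge (le_inf hc hd) (S.card_uat_inf hcd).le).symm

omit [FaithfulSMul G Ω] in
theorem norm_of_fix {g : G} (ha : g • S.a = S.a) (hb : g • S.b = S.b) :
    g ∈ Subgroup.normalizer (S.X0 : Set G) := by
  have key : ∀ g : G, g • S.a = S.a → g • S.b = S.b → ∀ x ∈ S.X0, cj g x ∈ S.X0 := fun g ha hb x hx =>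
    ⟨S.U_norm g ha x hx.1, by have := S.uat_cj hx.2 g; rwa [hb] at this⟩
  refine Subgroup.mem_normalizer_iff.2 fun x => ⟨key g ha hb x, fun hx => ?_⟩
  have := key g⁻¹ (by rw [inv_smul_eq_iff, ha]) (by rw [inv_smul_eq_iff, hb]) _ hx
  rwa [show cj g⁻¹ (g * x * g⁻¹) = x from cj_cancel' g x] at this

omit [FaithfulSMul G Ω] in
theorem norm_of_swap {g : G} (ha : g • S.a = S.b) (hb : g • S.b = S.a) :
    g ∈ Subgroup.normalizer (S.X0 : Set G) := by
  have key : ∀ g : G, g • S.a = S.b → g • S.b = S.a → ∀ x ∈ S.X0, cj g x ∈ S.X0 := fun g ha hb x hx => by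
    refine ⟨?_, ?_⟩
    · have := S.uat_cj hx.2 g
      rwa [hb, S.uat_a] at this
    · exact (S.uat_iff ha).2 (by rw [cj_cancel']; exact hx.1)
  refine Subgroup.mem_normalizer_iff.2 fun x => ⟨key g ha hb x, fun hx => ?_⟩
  have := key g⁻¹ (by rw [inv_smul_eq_iff, hb]) (by rw [inv_smul_eq_iff, ha]) _ hx
  rwa [show cj g⁻¹ (g * x * g⁻¹) = x from cj_cancel' g x] at this

omit [FaithfulSMul G Ω] in
/-- The points whose conjugate contains the intersection, moved by its normaliser. -/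
theorem delta_smul {g : G} (hg : g ∈ Subgroup.normalizer (S.X0 : Set G)) {c : Ω}
    (hc : S.X0 ≤ S.Uat c) : S.X0 ≤ S.Uat (g • c) := fun x hx => by
  have h := S.uat_cj (hc ((Subgroup.mem_normalizer_iff.1 (inv_mem hg) x).1 hx)) g
  rwa [show cj g (g⁻¹ * x * g⁻¹⁻¹) = x from cj_cancel g x] at h

omit [FaithfulSMul G Ω] in
theorem delta_a : S.X0 ≤ S.Uat S.a := by rw [S.uat_a]; exact inf_le_left

omit [FaithfulSMul G Ω] in
theorem delta_b : S.X0 ≤ S.Uat S.b := inf_le_right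

omit [FaithfulSMul G Ω] in
theorem exists_norm_of_delta {c : Ω} (hca : c ≠ S.a) (hc : S.X0 ≤ S.Uat c) :
    ∃ u ∈ S.U, u ∈ Subgroup.normalizer (S.X0 : Set G) ∧ u • S.b = c := by
  obtain ⟨u, hu, hub⟩ := S.U_trans c hca
  refine ⟨u, hu, ?_, hub⟩
  have hmap : S.X0.map (MulAut.conj u).toMonoidHom = S.X0 := by
    refine Subgroup.eq_of_le_of_card_ge ?_ (Subgroup.card_map_of_injective (MulAut.conj u).injective).ge
    rintro _ ⟨x, hx, rfl⟩
    have h1 : cj u x ∈ S.U := S.U.mul_mem (S.U.mul_mem hu hx.1) (S.U.inv_mem hu)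
    have h2 : cj u x ∈ S.Uat c := hub ▸ S.uat_cj hx.2 u
    show cj u x ∈ S.X0
    rw [← S.inf_eq_X0 hca.symm S.delta_a hc]
    exact ⟨by rwa [S.uat_a], h2⟩
  refine Subgroup.mem_normalizer_iff.2 fun x => ⟨fun hx => hmap.le ⟨x, hx, rfl⟩, fun hx => ?_⟩
  obtain ⟨x', hx', e⟩ := hmap.ge hx
  have e' : u * x' * u⁻¹ = u * x * u⁻¹ := e
  rwa [← mul_left_cancel (mul_right_cancel e')]

variable [IsSimpleGroup G]

theorem two_fix_two (S : Hyp G Ω) {x : G} {c d : Ω} (hcd : c ≠ d) (hc : x • c = c) (hd : x • d = d)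
    (h2 : ∃ k, x ^ 2 ^ k = 1) : x = 1 := by
  obtain ⟨g, ga, gb⟩ := S.two c d hcd
  obtain ⟨k, hk⟩ := h2
  have ha : cj g⁻¹ x • S.a = S.a := by
    simp only [cj, inv_inv, mul_smul]; rw [ga, hc, ← ga, inv_smul_smul]
  have hb : cj g⁻¹ x • S.b = S.b := by
    simp only [cj, inv_inv, mul_smul]; rw [gb, hd, ← gb, inv_smul_smul]
  have h : cj g⁻¹ x ∈ S.T := S.mem_T.2 ⟨S.two_mem ha ⟨k, by rw [← cj_pow, hk, cj_one]⟩, hb⟩
  rw [S.T_eq_bot, Subgroup.mem_bot] at h
  exact cj_eq_one.1 h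

theorem invol_zat (S : Hyp G Ω) {i : G} (h2 : i * i = 1) (h1 : i ≠ 1) {c : Ω} (hc : i • c = c) : i ∈ S.Zat c := by
  by_contra h
  obtain ⟨x, hxc, hx⟩ := S.exists_fix_ne h2 h1 hc h
  exact h1 (S.two_fix_two hxc hx hc ⟨1, by rw [pow_one, pow_two, h2]⟩)

/-- **The two point stabiliser in `U` lies in the other conjugate of `U`.** -/
theorem stab_le_X0 : S.U ⊓ MulAction.stabilizer G S.b ≤ S.X0 := by
  classical
  intro x₀ hx₀
  by_contra hx₀X
  -- an element of prime power order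
  obtain ⟨x₁, hx₁U, hx₁b, hx₁X, hmin⟩ : ∃ x, x ∈ S.U ∧ x • S.b = S.b ∧ x ∉ S.X0 ∧
      ∀ y, y ∈ S.U → y • S.b = S.b → orderOf y < orderOf x → y ∈ S.X0 := by
    have hex : ∃ n, ∃ x, x ∈ S.U ∧ x • S.b = S.b ∧ x ∉ S.X0 ∧ orderOf x = n :=
      ⟨_, x₀, hx₀.1, hx₀.2, hx₀X, rfl⟩
    obtain ⟨x, hxU, hxb, hxX, hxn⟩ := Nat.find_spec hex
    exact ⟨x, hxU, hxb, hxX, fun y hy hyb hlt =>
      by_contra fun hyX => Nat.find_min hex (hxn ▸ hlt) ⟨y, hy, hyb, hyX, rfl⟩⟩
  have hstabpow : ∀ {y : G} (i : ℕ), y • S.b = S.b → y ^ i • S.b = S.b := fun {y} i hy => by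
    induction i with
    | zero => simp
    | succ i ih => rw [pow_succ, mul_smul, hy, ih]
  have hpX : ∀ r : ℕ, r.Prime → r ∣ orderOf x₁ → x₁ ^ r ∈ S.X0 := fun r hr hdvd =>
    hmin _ (pow_mem hx₁U r) (hstabpow r hx₁b) (by
      rw [orderOf_pow, Nat.gcd_eq_right hdvd]
      exact Nat.div_lt_self (orderOf_pos x₁) hr.one_lt)
  obtain ⟨p, hp, hpdvd⟩ := Nat.exists_prime_and_dvd (n := orderOf x₁) (fun h =>
    hx₁X (by rw [orderOf_eq_one_iff.1 h]; exact one_mem _))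
  haveI := Fact.mk hp
  have honly : ∀ r, r.Prime → r ∣ orderOf x₁ → r = p := fun r hr hdvd => by
    by_contra hne
    obtain ⟨α, β, hab⟩ := Nat.isCoprime_iff_coprime.2 ((Nat.coprime_primes hr hp).2 hne)
    refine hx₁X ?_
    rw [show x₁ = (x₁ ^ r) ^ α * (x₁ ^ p) ^ β by
      rw [← zpow_natCast, ← zpow_natCast, ← zpow_mul, ← zpow_mul, ← zpow_add,
        show (r : ℤ) * α + (p : ℤ) * β = α * r + β * p by ring, hab, zpow_one]]
    exact mul_mem (zpow_mem (hpX r hr hdvd) _) (zpow_mem (hpX p hp hpdvd) _)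
  obtain ⟨k₁, hk₁⟩ : ∃ k, orderOf x₁ = p ^ k :=
    ⟨_, Nat.eq_prime_pow_of_unique_prime_dvd (orderOf_pos x₁).ne' (fun hr hd => honly _ hr hd)⟩
  have hp2 : p ≠ 2 := fun e => hx₁X (by
    rw [S.two_fix_two S.ne (S.U_fix _ hx₁U) hx₁b ⟨k₁, by rw [← e, ← hk₁, pow_orderOf_eq_one]⟩]
    exact one_mem _)
  -- the `p`-part of `U`
  set Q : Subgroup G := ((default : Sylow p S.U) : Subgroup S.U).map S.U.subtype with hQdef
  have hQU : Q ≤ S.U := Subgroup.map_subtype_le _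
  have hQp : IsPGroup p Q := (default : Sylow p S.U).2.map _
  haveI := S.nilp
  have hQmem : ∀ y ∈ S.U, (∃ k, y ^ p ^ k = 1) → y ∈ Q := fun y hy ⟨k, hk⟩ => by
    have hz : IsPGroup p (Subgroup.zpowers (⟨y, hy⟩ : S.U)) := fun z => by
      obtain ⟨z, hz⟩ := z
      obtain ⟨i, rfl⟩ := Subgroup.mem_zpowers_iff.1 hz
      refine ⟨k, Subtype.ext ?_⟩
      show ((⟨y, hy⟩ : S.U) ^ i) ^ p ^ k = 1
      rw [← zpow_natCast, ← zpow_mul, mul_comm, zpow_mul, zpow_natCast,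
        show (⟨y, hy⟩ : S.U) ^ p ^ k = 1 from Subtype.ext hk, one_zpow]
    obtain ⟨Q', hQ'⟩ := hz.exists_le_sylow
    haveI := Sylow.unique_of_normal (default : Sylow p S.U) inferInstance
    rw [Subsingleton.elim Q' default] at hQ'
    exact ⟨_, hQ' (Subgroup.mem_zpowers _), rfl⟩
  have hQnorm : ∀ g : G, g • S.a = S.a → ∀ y ∈ Q, cj g y ∈ Q := fun g hg y hy => by
    obtain ⟨k, hk⟩ := hQp ⟨y, hy⟩
    exact hQmem _ (S.U_norm g hg y (hQU hy)) ⟨k, by
      rw [← cj_pow, show y ^ p ^ k = 1 from congrArg Subtype.val hk, cj_one]⟩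
  set Qb : Subgroup G := Q ⊓ MulAction.stabilizer G S.b with hQb
  have hx₁Q : x₁ ∈ Qb := ⟨hQmem _ hx₁U ⟨k₁, by rw [← hk₁, pow_orderOf_eq_one]⟩, hx₁b⟩
  set N0 := Subgroup.normalizer (S.X0 : Set G) with hN0
  haveI hXn : (S.X0.subgroupOf N0).Normal := Subgroup.normal_in_normalizer
  let Bar := N0 ⧸ S.X0.subgroupOf N0
  let π : N0 →* Bar := QuotientGroup.mk' _
  have hπ1 : ∀ {g : G} (hg : g ∈ N0), π ⟨g, hg⟩ = 1 ↔ g ∈ S.X0 := fun {g} hg => by
    show (QuotientGroup.mk ⟨g, hg⟩ : Bar) = 1 ↔ _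
    rw [QuotientGroup.eq_one_iff, Subgroup.mem_subgroupOf]
  have hQbN : Qb ≤ N0 := fun g hg => S.norm_of_fix (S.U_fix g (hQU hg.1)) hg.2
  set Qbar : Subgroup Bar := (Qb.subgroupOf N0).map π with hQbar
  have hQbarp : IsPGroup p Qbar :=
    ((hQp.to_le inf_le_left).comap_of_injective N0.subtype N0.subtype_injective).map π
  obtain ⟨xc, -, hxcen, hxco⟩ := CfsgLib.Transfer.exists_mem_center_orderOf_eq hQbarp (Z := ⊤)
    (fun h => hx₁X ((hπ1 (hQbN hx₁Q)).1 (by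
      have h1 : (⟨π ⟨x₁, hQbN hx₁Q⟩, ⟨⟨x₁, hQbN hx₁Q⟩, hx₁Q, rfl⟩⟩ : Qbar) ∈ (⊤ : Subgroup Qbar) :=
        Subgroup.mem_top _
      rw [h, Subgroup.mem_bot] at h1
      exact congrArg Subtype.val h1)))
  obtain ⟨⟨x, hxN⟩, hxQ0, hxc⟩ := xc.2
  have hxQ : x ∈ Qb := hxQ0
  set xb := π ⟨x, hxN⟩ with hxb
  have hxbo : orderOf xb = p := by rw [hxc, Subgroup.orderOf_coe, hxco]
  have hxX : x ∉ S.X0 := fun h => by
    rw [← hπ1 hxN, ← hxb] at h
    rw [h, orderOf_one] at hxbo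
    exact hp.one_lt.ne hxbo
  have hxU : x ∈ S.U := hQU hxQ.1
  have hxa : x • S.a = S.a := S.U_fix x hxU
  have hxpX : x ^ p ∈ S.X0 := by
    refine (hπ1 (pow_mem hxN p)).1 ?_
    rw [show (⟨x ^ p, pow_mem hxN p⟩ : N0) = ⟨x, hxN⟩ ^ p from rfl, map_pow, ← hxb, ← hxbo,
      pow_orderOf_eq_one]
  -- elements of order `p` modulo `X0` are powers of `x`
  have huniq : ∀ s (hs : s ∈ Qb), s ^ p ∈ S.X0 → π ⟨s, hQbN hs⟩ ∈ Subgroup.zpowers xb := by
    intro s hs hsp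
    by_contra hnot
    set sb := π ⟨s, hQbN hs⟩ with hsb
    have hcomm : Commute xb sb := by
      have := congrArg Subtype.val (Subgroup.mem_center_iff.1 hxcen
        ⟨sb, ⟨⟨s, hQbN hs⟩, hs, rfl⟩⟩)
      rw [hxc]
      exact this.symm
    have hcx : cm x s ∈ S.X0 := by
      refine (hπ1 (mul_mem (mul_mem (mul_mem hxN (hQbN hs)) (inv_mem hxN)) (inv_mem (hQbN hs)))).1 ?_
      show π (⟨x, hxN⟩ * ⟨s, hQbN hs⟩ * ⟨x, hxN⟩⁻¹ * ⟨s, hQbN hs⟩⁻¹) = 1
      rw [map_mul, map_mul, map_mul, map_inv, map_inv, ← hxb, ← hsb, hcomm.eq]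
      group
    -- the action on the central involutions at `b`
    let A : Subgroup G := S.Z.map (MulAut.conj (S.mv S.b)).toMonoidHom
    have hA : ∀ {j : G}, j ∈ A → j ≠ 1 → j ∈ S.Zat S.b := by
      rintro j ⟨z, hz, rfl⟩ hj
      exact (S.zat_iff (S.mv_spec S.b)).2 ⟨hj, by
        show cj (S.mv S.b)⁻¹ (cj (S.mv S.b) z) ∈ S.Z
        rwa [cj_cancel']⟩
    have hA' : ∀ {j : G}, j ∈ S.Zat S.b → j ∈ A := fun {j} hj =>
      ⟨_, ((S.zat_iff (S.mv_spec S.b)).1 hj).2, cj_cancel (S.mv S.b) j⟩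
    have hAg : ∀ g : G, g • S.b = S.b → ∀ j ∈ A, cj g j ∈ A := fun g hg j hj => by
      by_cases h : j = 1
      · rw [h, cj_one]; exact one_mem _
      · have := S.zat_cj (hA hj h) g
        rw [hg] at this
        exact hA' this
    letI : CommGroup A := { (inferInstance : Group A) with
      mul_comm := fun z z' => Subtype.ext (by
        obtain ⟨z, y, hy, rfl⟩ := z
        obtain ⟨z', y', hy', rfl⟩ := z'
        show (MulAut.conj (S.mv S.b)).toMonoidHom y * (MulAut.conj (S.mv S.b)).toMonoidHom y' =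
          (MulAut.conj (S.mv S.b)).toMonoidHom y' * (MulAut.conj (S.mv S.b)).toMonoidHom y
        rw [← map_mul, ← map_mul, (S.Z_comm_P hy (S.Z_le hy')).eq]) }
    let act : ∀ g : G, g • S.b = S.b → Monoid.End A := fun g hg =>
      MonoidHom.mk' (fun j => ⟨cj g j, hAg g hg j j.2⟩) (fun j j' => Subtype.ext (cj_mul g j j'))
    have hpow : ∀ (g : G) (hg : g • S.b = S.b) (i : ℕ), (act g hg) ^ i = act (g ^ i) (hstabpow i hg) := by
      intro g hg i
      induction i with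
      | zero =>
        rw [pow_zero]
        refine MonoidHom.ext fun j => Subtype.ext ?_
        show (j : G) = cj (g ^ 0) j
        rw [pow_zero, cj_one_left]
      | succ i ih =>
        rw [pow_succ, ih]
        refine MonoidHom.ext fun j => Subtype.ext ?_
        show cj (g ^ i) (cj g j) = cj (g ^ (i + 1)) j
        rw [cj_cj, ← pow_succ]
    have htriv : ∀ g ∈ S.X0, ∀ j : A, cj g (j : G) = j := fun g hg j => by
      by_cases h : (j : G) = 1
      · rw [h, cj_one]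
      · exact cj_eq_iff.2 (S.uat_comm hg.2 (hA j.2 h)).eq
    have hfree : ∀ g (hg : g ∈ Qb), g ∉ S.X0 → ∀ j : A, cj g (j : G) = j → j = 1 := by
      intro g hg hgX j hj
      by_contra h
      refine hgX ⟨hQU hg.1, S.uat_of_comm S.ne (by rw [S.uat_a]; exact hQU hg.1)
        (hA j.2 fun e => h (Subtype.ext e)) (cj_eq_iff.1 hj)⟩
    have hsbz : ∀ i : ℕ, 0 < i → i < p → s ^ i ∉ S.X0 := by
      intro i hi hip h
      obtain ⟨α, β, hab⟩ := Nat.isCoprime_iff_coprime.2 ((Nat.coprime_of_lt_prime hi.ne' hip hp).symm)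
      refine hnot ?_
      have : sb = 1 := (hπ1 (hQbN hs)).2 (by
        rw [show s = (s ^ i) ^ α * (s ^ p) ^ β by
          rw [← zpow_natCast, ← zpow_natCast, ← zpow_mul, ← zpow_mul, ← zpow_add,
            show (i : ℤ) * α + (p : ℤ) * β = α * i + β * p by ring, hab, zpow_one]]
        exact mul_mem (zpow_mem h _) (zpow_mem hsp _))
      rw [this]
      exact one_mem _
    have hxs : ∀ i : ℕ, i < p → x * s ^ i ∉ S.X0 := by
      intro i hip h
      rcases Nat.eq_zero_or_pos i with rfl | hi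
      · rw [pow_zero, mul_one] at h; exact hxX h
      obtain ⟨α, β, hab⟩ := Nat.isCoprime_iff_coprime.2 ((Nat.coprime_of_lt_prime hi.ne' hip hp).symm)
      refine hnot ?_
      have h1 : π (⟨x, hxN⟩ * ⟨s, hQbN hs⟩ ^ i) = 1 :=
        (hπ1 (mul_mem hxN (pow_mem (hQbN hs) i))).2 h
      rw [map_mul, map_pow, ← hxb, ← hsb] at h1
      have h2 : sb ^ p = 1 := by
        rw [hsb, ← map_pow]
        exact (hπ1 (pow_mem (hQbN hs) p)).2 hsp
      have h3 : sb ^ i = xb⁻¹ := eq_inv_of_mul_eq_one_right h1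
      rw [show sb = (sb ^ i) ^ α * (sb ^ p) ^ β by
          rw [← zpow_natCast, ← zpow_natCast, ← zpow_mul, ← zpow_mul, ← zpow_add,
            show (i : ℤ) * α + (p : ℤ) * β = α * i + β * p by ring, hab, zpow_one],
        h2, one_zpow, mul_one, h3]
      exact zpow_mem (inv_mem (Subgroup.mem_zpowers xb)) α
    obtain ⟨j, hj⟩ := S.exists_zat S.b
    have hjA := hA' hj
    have hjp : (⟨j, hjA⟩ : A) ^ p = 1 := by
      refine pow_eq_one_of_free (act x hxQ.2) (act s hs.2) ?_ ?_ ?_ ?_ _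
      · refine MonoidHom.ext fun z => Subtype.ext ?_
        show cj x (cj s z) = cj s (cj x z)
        rw [cj_cj, cj_cj]
        have e := htriv _ hcx ⟨cj (s * x) z, hAg _ (by rw [mul_smul, hxQ.2, hs.2]) z z.2⟩
        rw [cj_cj, cm, show x * s * x⁻¹ * s⁻¹ * (s * x) = x * s by group] at e
        exact e
      · rw [hpow x hxQ.2]
        exact MonoidHom.ext fun z => Subtype.ext (htriv _ hxpX z)
      · rw [hpow s hs.2]
        exact MonoidHom.ext fun z => Subtype.ext (htriv _ hsp z)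
      · refine fun z => ⟨fun i hi hip hz => ?_, fun i hip hz => ?_⟩
        · rw [hpow s hs.2] at hz
          exact hfree _ (pow_mem hs i) (hsbz i hi hip) z (congrArg Subtype.val hz)
        · rw [hpow s hs.2] at hz
          refine hfree _ (mul_mem hxQ (pow_mem hs i)) (hxs i hip) z ?_
          rw [← cj_cj]
          exact congrArg Subtype.val hz
    have hj1 : j ^ p = 1 := congrArg Subtype.val hjp
    obtain ⟨l, hl⟩ := hp.odd_of_ne_two hp2
    rw [hl, pow_succ, pow_mul, pow_two, S.zat_sq hj, one_pow, one_mul] at hj1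
    exact hj.1 hj1
  -- the swap and the conjugate element
  obtain ⟨za, hza⟩ := S.exists_zat S.a
  obtain ⟨zb, hzb⟩ := S.exists_zat S.b
  obtain ⟨w, hw, -, hwa, hwb, -⟩ := S.exists_mid S.ne hza hzb
  have hwN : w ∈ N0 := S.norm_of_swap hwa hwb
  set y := cj w x with hydef
  have hyb' : y ∈ S.Uat S.b := by
    have := S.uat_cj (show x ∈ S.Uat S.a by rw [S.uat_a]; exact hxU) w
    rwa [hwa] at this
  have hyb : y • S.b = S.b := S.uat_fix hyb'
  have hya : y • S.a = S.a := by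
    have := cj_smul_fix (g := w) hxQ.2
    rwa [hwb] at this
  have hyN : y ∈ N0 := S.norm_of_fix hya hyb
  have hyX : y ∉ S.X0 := fun h => hxX (by
    have := (Subgroup.mem_normalizer_iff.1 hwN y).1 h
    rwa [show w * y * w⁻¹ = x by rw [hydef, ← cj, cj_cj, hw, cj_one_left]] at this)
  have hypX : y ^ p ∈ S.X0 := by
    rw [hydef, ← cj_pow]
    exact (Subgroup.mem_normalizer_iff.1 hwN _).1 hxpX
  -- a point of the orbit of the normaliser of `Qb`
  set Nq : Subgroup G := Q ⊓ N0 with hNq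
  have hQbNq : Qb ≤ Nq := le_inf inf_le_left hQbN
  have hne : ¬ Nq ≤ Qb := by
    intro hle
    have hfixΔ : ∀ c, S.X0 ≤ S.Uat c → x • c = c := fun c hc => by
      by_cases hca : c = S.a
      · rw [hca]; exact hxa
      obtain ⟨u, hu, huN, hub⟩ := S.exists_norm_of_delta hca hc
      have h1 : cj u⁻¹ x ∈ Qb := hle ⟨hQnorm _ (S.U_fix _ (inv_mem hu)) x hxQ.1,
        N0.mul_mem (N0.mul_mem (N0.inv_mem huN) hxN) (N0.inv_mem (N0.inv_mem huN))⟩
      have h2 := cj_smul_fix (g := u) (h1.2 : cj u⁻¹ x • S.b = S.b)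
      rwa [cj_cancel, hub] at h2
    have hzN : ∀ j ∈ S.Zat S.b, j ∈ N0 := fun j hj => Subgroup.mem_normalizer_iff.2 fun g =>
      ⟨fun hg => by rwa [show j * g * j⁻¹ = g from cj_eq_iff.2 (S.uat_comm hg.2 hj).eq.symm],
        fun hg => by
          have h := cj_eq_iff.2 (S.uat_comm hg.2 hj).eq.symm
          rw [show cj j (j * g * j⁻¹) = j * (j * g * j⁻¹) * j⁻¹ from rfl] at h
          rw [show j * g * j⁻¹ = g from mul_left_cancel (mul_right_cancel h)] at hg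
          exact hg⟩
    set z1 := cj x zb with hz1
    have hz1Z : z1 ∈ S.Zat S.b := by
      have := S.zat_cj hzb x
      rwa [hxQ.2] at this
    have hfix : (z1 * zb) • S.a = S.a := by
      have hΔ := hfixΔ _ (S.delta_smul (hzN zb hzb) S.delta_a)
      rw [hz1, mul_smul]
      show (x * zb * x⁻¹) • zb • S.a = S.a
      rw [mul_smul, mul_smul, show x⁻¹ • zb • S.a = zb • S.a by rw [inv_smul_eq_iff, hΔ], ← mul_smul zb,
        S.zat_sq hzb, one_smul, hxa]
    have he : z1 * zb = 1 := by_contra fun h => S.ne (S.zat_free (S.zat_mul hz1Z hzb h) hfix)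
    refine hxX ⟨hxU, S.uat_of_comm S.ne (by rw [S.uat_a]; exact hxU) hzb (cj_eq_iff.1 ?_)⟩
    rw [← hz1, ← inv_of_sq (S.zat_sq hzb)]
    exact eq_inv_of_mul_eq_one_left he
  haveI : Group.IsNilpotent Nq := (hQp.to_le inf_le_left : IsPGroup p Nq).isNilpotent
  obtain ⟨m₀, hm₀Nq, hm₀N, hm₀⟩ : ∃ m, m ∈ Nq ∧ m ∈ Subgroup.normalizer (Qb : Set G) ∧ m ∉ Qb := by
    have hlt : Qb.subgroupOf Nq < ⊤ := lt_top_iff_ne_top.2 fun h =>
      hne (Subgroup.subgroupOf_eq_top.1 h)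
    obtain ⟨m, hm, hm'⟩ := SetLike.exists_of_lt (Group.normalizerCondition_of_isNilpotent _ hlt)
    refine ⟨m, m.2, Subgroup.mem_normalizer_iff.2 fun g => ?_, hm'⟩
    constructor
    · intro hg
      exact Subgroup.mem_subgroupOf.1 ((Subgroup.mem_normalizer_iff.1 hm ⟨g, hQbNq hg⟩).1 hg)
    · intro hg
      have hgN : g ∈ Nq := by
        have := mul_mem (mul_mem (inv_mem m.2) (hQbNq hg)) m.2
        rwa [show (m : G)⁻¹ * ((m : G) * g * (m : G)⁻¹) * m = g by group] at this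
      exact Subgroup.mem_subgroupOf.1 ((Subgroup.mem_normalizer_iff.1 hm ⟨g, hgN⟩).2 hg)
  set M : Subgroup G := Nq ⊓ Subgroup.normalizer (Qb : Set G) with hM
  have hQbM : Qb ≤ M := le_inf hQbNq Subgroup.le_normalizer
  haveI := S.finite_points
  set O : Set Ω := MulAction.orbit M S.b with hO
  have hO1 : p ∣ O.ncard := by
    obtain ⟨n, hn⟩ := IsPGroup.iff_card.1 (hQp.to_le (inf_le_left.trans inf_le_left) : IsPGroup p M)
    obtain ⟨i, -, hi⟩ := (Nat.dvd_prime_pow hp).1 (hn ▸ Dvd.intro _ (orbit_card M S.b))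
    rw [hi]
    refine dvd_pow_self p fun e => hm₀ ⟨hm₀Nq.1, ?_⟩
    rw [e, pow_zero, Set.ncard_eq_one] at hi
    obtain ⟨c, hc⟩ := hi
    have h1 : m₀ • S.b ∈ ({c} : Set Ω) := hc ▸ ⟨⟨m₀, hm₀Nq, hm₀N⟩, rfl⟩
    have h2 : S.b ∈ ({c} : Set Ω) := hc ▸ MulAction.mem_orbit_self _
    exact h1.trans h2.symm
  have hyQbn : y ∈ Subgroup.normalizer (Qb : Set G) := by
    have key : ∀ g : G, g • S.a = S.a → g • S.b = S.b → ∀ v ∈ Qb, cj g v ∈ Qb := fun g ha hb v hv =>
      ⟨hQnorm g ha v hv.1, by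
        show cj g v • S.b = S.b
        have := cj_smul_fix (g := g) (hv.2 : v • S.b = S.b)
        rwa [hb] at this⟩
    refine Subgroup.mem_normalizer_iff.2 fun g => ⟨key y hya hyb g, fun hg => ?_⟩
    have := key y⁻¹ (by rw [inv_smul_eq_iff, hya]) (by rw [inv_smul_eq_iff, hyb]) _ hg
    rwa [show cj y⁻¹ (y * g * y⁻¹) = g from cj_cancel' y g] at this
  have hyM : ∀ g ∈ Subgroup.zpowers y, ∀ m ∈ M, cj g m ∈ M := by
    intro g hg m hm
    have hga : g • S.a = S.a := Subgroup.zpowers_le.2 (show y ∈ MulAction.stabilizer G S.a from hya) hg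
    have hgN : g ∈ N0 := Subgroup.zpowers_le.2 hyN hg
    have hgQ : g ∈ Subgroup.normalizer (Qb : Set G) := Subgroup.zpowers_le.2 hyQbn hg
    exact ⟨⟨hQnorm g hga m hm.1.1, N0.mul_mem (N0.mul_mem hgN hm.1.2) (N0.inv_mem hgN)⟩,
      Subgroup.mul_mem _ (Subgroup.mul_mem _ hgQ hm.2) (Subgroup.inv_mem _ hgQ)⟩
  let act : MulAction (Subgroup.zpowers y) O :=
    { smul := fun g c => ⟨(g : G) • (c : Ω), by
        obtain ⟨m, hm⟩ := c.2
        refine ⟨⟨cj (g : G) m, hyM g g.2 m m.2⟩, ?_⟩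
        show cj (g : G) m • S.b = (g : G) • (c : Ω)
        rw [← hm, cj, mul_smul, mul_smul,
          show (g : G)⁻¹ • S.b = S.b from Subgroup.zpowers_le.2
            (show y ∈ MulAction.stabilizer G S.b from hyb) (inv_mem g.2)]
        rfl⟩
      one_smul := fun c => Subtype.ext (one_smul G (c : Ω))
      mul_smul := fun g g' c => Subtype.ext (mul_smul (g : G) (g' : G) (c : Ω)) }
  letI := act
  obtain ⟨ky, hky⟩ := hQp ⟨x, hxQ.1⟩
  have hzp : IsPGroup p (Subgroup.zpowers y) := fun g => by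
    obtain ⟨g, hg⟩ := g
    obtain ⟨i, rfl⟩ := Subgroup.mem_zpowers_iff.1 hg
    refine ⟨ky, Subtype.ext ?_⟩
    show (y ^ i) ^ p ^ ky = 1
    rw [← zpow_natCast, ← zpow_mul, mul_comm, zpow_mul, zpow_natCast, hydef, ← cj_pow,
      show x ^ p ^ ky = 1 from congrArg Subtype.val hky, cj_one, one_zpow]
  have hbO : S.b ∈ O := MulAction.mem_orbit_self _
  let F : Set Ω := {c | c ∈ O ∧ y • c = c}
  have hF : p ≤ F.ncard := by
    have h := hzp.card_modEq_card_fixedPoints O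
    rw [Nat.card_coe_set_eq] at h
    have hb0 : (⟨S.b, hbO⟩ : O) ∈ MulAction.fixedPoints (Subgroup.zpowers y) O := fun g =>
      Subtype.ext (show (g : G) • S.b = S.b from Subgroup.zpowers_le.2
        (show y ∈ MulAction.stabilizer G S.b from hyb) g.2)
    have h1 : p ∣ Nat.card (MulAction.fixedPoints (Subgroup.zpowers y) O) :=
      Nat.modEq_zero_iff_dvd.1 (h.symm.trans (Nat.modEq_zero_iff_dvd.2 hO1))
    haveI : Nonempty (MulAction.fixedPoints (Subgroup.zpowers y) O) := ⟨⟨_, hb0⟩⟩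
    refine le_trans (Nat.le_of_dvd Nat.card_pos h1) ?_
    rw [← Nat.card_coe_set_eq F]
    refine Nat.card_le_card_of_injective
      (fun c => ⟨((c.1 : O) : Ω), (c.1 : O).2, congrArg Subtype.val (c.2 ⟨y, Subgroup.mem_zpowers y⟩)⟩)
      fun c c' e => Subtype.ext (Subtype.ext (congrArg Subtype.val e :))
  set yb := π ⟨y, hyN⟩ with hyb0
  -- the element attached to a fixed point
  have hF' : ∀ c ∈ F, ∃ k, ∃ hkN : k ∈ N0, k ∈ S.Uat c ∧ S.X0 ≤ S.Uat c ∧ k ∉ S.X0 ∧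
      ∃ i : Fin p, π ⟨k, hkN⟩ = yb * xb ^ (i : ℕ) := by
    rintro c ⟨⟨⟨m, hmM⟩, rfl⟩, hyc⟩
    obtain ⟨hmNq, hmn⟩ := hmM
    have hma : m • S.a = S.a := S.U_fix m (hQU hmNq.1)
    set k := cj m y with hk
    have hkN : k ∈ N0 := mul_mem (mul_mem hmNq.2 hyN) (inv_mem hmNq.2)
    set t := y⁻¹ * cj m⁻¹ y with ht
    have htQ : t ∈ Q := by
      rw [ht, show y⁻¹ * cj m⁻¹ y = cj y⁻¹ m⁻¹ * m by simp only [cj]; group]
      exact mul_mem (hQnorm _ (by rw [inv_smul_eq_iff, hya]) _ (inv_mem hmNq.1)) hmNq.1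
    have htb : t ∈ Qb := ⟨htQ, by
      show t • S.b = S.b
      rw [ht, mul_smul]
      have hyc' : y • m • S.b = m • S.b := hyc
      rw [show cj m⁻¹ y • S.b = S.b by
        simp only [cj, inv_inv, mul_smul]; rw [hyc', inv_smul_smul], inv_smul_eq_iff, hyb]⟩
    set s := cj m t⁻¹ with hs
    have hsQb : s ∈ Qb := (Subgroup.mem_normalizer_iff.1 hmn _).1 (inv_mem htb)
    have hks : k = y * s := by simp only [hk, hs, ht, cj]; group
    have hkp : k ^ p ∈ S.X0 := by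
      rw [hk, ← cj_pow]
      exact (Subgroup.mem_normalizer_iff.1 hmNq.2 _).1 hypX
    have hsX : Commute yb (π ⟨s, hQbN hsQb⟩) := by
      have hc : cm y s ∈ S.X0 := by
        refine ⟨?_, ?_⟩
        · have h1 : cj y s ∈ S.U := S.U_norm y hya s (hQU hsQb.1)
          exact S.U.mul_mem h1 (S.U.inv_mem (hQU hsQb.1))
        · have h1 : cj s y⁻¹ ∈ S.Uat S.b := by
            have := S.uat_cj (inv_mem hyb') s
            rwa [show s • S.b = S.b from hsQb.2] at this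
          rw [show cm y s = y * cj s y⁻¹ by simp only [cm, cj]; group]
          exact mul_mem hyb' h1
      have h2 := (hπ1 (mul_mem (mul_mem (mul_mem hyN (hQbN hsQb)) (inv_mem hyN)) (inv_mem (hQbN hsQb)))).2 hc
      have h3 : yb * π ⟨s, hQbN hsQb⟩ * yb⁻¹ * (π ⟨s, hQbN hsQb⟩)⁻¹ = 1 := by
        rw [hyb0, ← map_inv, ← map_inv, ← map_mul, ← map_mul, ← map_mul]
        exact h2
      exact cm_eq_one.1 h3
    have hsp : s ^ p ∈ S.X0 := by
      refine (hπ1 (pow_mem (hQbN hsQb) p)).1 ?_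
      have h1 : π (⟨y, hyN⟩ * ⟨s, hQbN hsQb⟩) ^ p = 1 := by
        rw [← map_pow]
        refine (hπ1 (pow_mem (mul_mem hyN (hQbN hsQb)) p)).2 ?_
        rw [← hks]
        exact hkp
      rw [map_mul, ← hyb0, hsX.mul_pow, show yb ^ p = 1 from by
        rw [hyb0, ← map_pow]; exact (hπ1 (pow_mem hyN p)).2 hypX, one_mul, ← map_pow] at h1
      exact h1
    obtain ⟨i, hi, e⟩ : ∃ i < p, xb ^ i = π ⟨s, hQbN hsQb⟩ := by
      have := huniq s hsQb hsp
      rw [Subgroup.mem_zpowers_iff] at this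
      obtain ⟨i, hi⟩ := this
      refine ⟨(i % (p : ℤ)).toNat, ?_, ?_⟩
      · have := Int.emod_lt_of_pos i (Int.ofNat_lt.2 hp.pos); have := hp.pos; omega
      · rw [← hi, ← zpow_natCast, Int.toNat_of_nonneg (Int.emod_nonneg _ (by exact_mod_cast hp.ne_zero))]
        have := zpow_mod_orderOf xb i
        rwa [hxbo] at this
    refine ⟨k, hkN, S.uat_cj hyb' m, S.delta_smul hmNq.2 S.delta_b, fun h => hyX ?_, ⟨i, hi⟩, ?_⟩
    · exact (Subgroup.mem_normalizer_iff.1 hmNq.2 y).2 h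
    · rw [e, hyb0, ← map_mul]
      exact congrArg π (Subtype.ext hks)
  choose kf hkN hkU hkΔ hkX ifun hifun using hF'
  have hinj : Function.Injective (fun c : F => ifun c.1 c.2) := by
    rintro ⟨c, hc⟩ ⟨c', hc'⟩ (e : ifun c hc = ifun c' hc')
    refine Subtype.ext (by_contra fun hne => hkX c' hc' ?_)
    have h1 : π ⟨kf c hc, hkN c hc⟩ = π ⟨kf c' hc', hkN c' hc'⟩ := by rw [hifun, hifun, e]
    rw [QuotientGroup.mk'_eq_mk'] at h1
    obtain ⟨z, hz, hz'⟩ := h1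
    have e2 : kf c hc * (z : G) = kf c' hc' := congrArg Subtype.val hz'
    have h2 : kf c' hc' ∈ S.Uat c := e2 ▸ mul_mem (hkU c hc) (hkΔ c hc hz)
    rw [← S.inf_eq_X0 hne (hkΔ c hc) (hkΔ c' hc')]
    exact ⟨h2, hkU c' hc'⟩
  have hcardF : Nat.card F = p := by
    refine le_antisymm ?_ (by rw [Nat.card_coe_set_eq]; exact hF)
    simpa using Nat.card_le_card_of_injective _ hinj
  have hsurj : Function.Surjective (fun c : F => ifun c.1 c.2) :=
    (Nat.bijective_iff_injective_and_card _).2 ⟨hinj, by simpa using hcardF⟩ |>.2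
  obtain ⟨⟨c, hc⟩, hci⟩ := hsurj ⟨p - 1, by have := hp.pos; omega⟩
  have hkc := hifun c hc
  rw [show ifun c hc = ⟨p - 1, by have := hp.pos; omega⟩ from hci] at hkc
  set k := kf c hc with hkdef
  set wb := π ⟨w, hwN⟩ with hwb0
  have hwx : wb * xb * wb⁻¹ = yb := by rw [hwb0, hxb, hyb0, ← map_inv, ← map_mul, ← map_mul]; rfl
  have hwy : wb * yb * wb⁻¹ = xb := by
    rw [hwb0, hxb, hyb0, ← map_inv, ← map_mul, ← map_mul]
    refine congrArg π (Subtype.ext ?_)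
    show w * y * w⁻¹ = x
    rw [hydef, ← cj, cj_cj, hw, cj_one_left]
  have hxp1 : xb ^ (p - 1) = xb⁻¹ := by
    refine eq_inv_of_mul_eq_one_left ?_
    rw [← pow_succ, Nat.sub_add_cancel hp.one_le, ← hxbo, pow_orderOf_eq_one]
  rw [show ((⟨p - 1, by have := hp.pos; omega⟩ : Fin p) : ℕ) = p - 1 from rfl, hxp1] at hkc
  have hinvk : π ⟨cj w k, mul_mem (mul_mem hwN (hkN c hc)) (inv_mem hwN)⟩ * π ⟨k, hkN c hc⟩ = 1 := by
    rw [show (⟨cj w k, mul_mem (mul_mem hwN (hkN c hc)) (inv_mem hwN)⟩ : N0) =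
        ⟨w, hwN⟩ * ⟨k, hkN c hc⟩ * ⟨w, hwN⟩⁻¹ from rfl, map_mul, map_mul, map_inv, ← hwb0, hkc]
    have : wb * (yb * xb⁻¹) * wb⁻¹ = (wb * yb * wb⁻¹) * (wb * xb * wb⁻¹)⁻¹ := by group
    rw [this, hwy, hwx]
    group
  have hinvX : cj w k * k ∈ S.X0 :=
    (hπ1 (mul_mem (mul_mem (mul_mem hwN (hkN c hc)) (inv_mem hwN)) (hkN c hc))).1 (by
      show π (⟨cj w k, mul_mem (mul_mem hwN (hkN c hc)) (inv_mem hwN)⟩ * ⟨k, hkN c hc⟩) = 1
      rw [map_mul, hinvk])
  have hΔw := S.delta_smul hwN (hkΔ c hc)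
  have hkw : k ∈ S.Uat (w • c) := by
    have h1 := mul_mem (inv_mem (S.uat_cj (hkU c hc) w)) (hΔw hinvX)
    rwa [inv_mul_cancel_left] at h1
  by_cases hwc : w • c = c
  · have hw1 : w ≠ 1 := fun e => S.ne (by rw [← hwa, e, one_smul])
    have hcomm := S.uat_comm (hkU c hc) (S.invol_zat hw hw1 hwc)
    rw [cj_eq_iff.2 hcomm.eq.symm, ← pow_two] at hinvX
    refine hkX c hc ?_
    have hkp : k ^ p ∈ S.X0 := (hπ1 (pow_mem (hkN c hc) p)).1 (by
      rw [show (⟨k ^ p, pow_mem (hkN c hc) p⟩ : N0) = ⟨k, hkN c hc⟩ ^ p from rfl, map_pow, hkc]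
      have hk2 : π ⟨k, hkN c hc⟩ ^ 2 = 1 := by
        rw [← map_pow]; exact (hπ1 (pow_mem (hkN c hc) 2)).2 hinvX
      rw [hkc] at hk2
      have hcc : Commute yb xb := by
        have e := hk2
        rw [pow_two] at e
        have hxy : xb * yb = yb * xb := by
          have hm : cm x y ∈ S.X0 := by
            refine ⟨?_, ?_⟩
            · rw [show cm x y = x * cj y x⁻¹ by simp only [cm, cj]; group]
              exact mul_mem hxU (S.U_norm y hya _ (inv_mem hxU))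
            · have h1 : cj x y ∈ S.Uat S.b := by
                have := S.uat_cj hyb' x
                rwa [show x • S.b = S.b from hxQ.2] at this
              exact (S.Uat S.b).mul_mem h1 ((S.Uat S.b).inv_mem hyb')
          have h2 := (hπ1 (mul_mem (mul_mem (mul_mem hxN hyN) (inv_mem hxN)) (inv_mem hyN))).2 hm
          have h3 : xb * yb * xb⁻¹ * yb⁻¹ = 1 := by
            rw [hxb, hyb0, ← map_inv, ← map_inv, ← map_mul, ← map_mul, ← map_mul]
            exact h2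
          exact cm_eq_one.1 h3
        exact hxy.symm
      rw [hcc.inv_right.mul_pow, inv_pow, show yb ^ p = 1 from by
        rw [hyb0, ← map_pow]; exact (hπ1 (pow_mem hyN p)).2 hypX, ← hxbo, pow_orderOf_eq_one, inv_one,
        one_mul])
    obtain ⟨l, hl⟩ := hp.odd_of_ne_two hp2
    rw [hl, pow_succ, pow_mul] at hkp
    have := mul_mem (inv_mem (pow_mem hinvX l)) hkp
    rwa [inv_mul_cancel_left] at this
  · exact hkX c hc (S.inf_eq_X0 hwc hΔw (hkΔ c hc) ▸ ⟨hkw, hkU c hc⟩)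

end Hyp

end CfsgLib.LocalEvenB.SplitOdd
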