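import Cfsg.Agent.Lib.LocalEvenB.SplitOdd.OddPart
import Cfsg.Agent.Lib.Lie.RankOneClass.Induction

/-!
Owner: helper20. `U` is regular on the other points: otherwise the normaliser of the two point
stabiliser in `U` induces a rank one setup on the points it fixes, whose kernel is a 2-group.
-/

set_option autoImplicit false
set_option linter.all false

namespace CfsgLib.LocalEvenB.SplitOdd

open CfsgLib.LocalEvenB.OddUnitary (cj cj_mul cj_inv cj_cj cj_one_left cj_one cj_pow cj_eq_one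
  cj_eq_iff cj_injective)

universe u v

namespace Hyp

variable {G : Type u} {Ω : Type v} [Group G] [MulAction G Ω] [Finite G] [FaithfulSMul G Ω]
  [IsSimpleGroup G] (S : Hyp G Ω)

/-- A two point stabiliser has odd order. -/
theorem odd_stab_stab (S : Hyp G Ω) {c d : Ω} (h : c ≠ d) :
    Odd (Nat.card (MulAction.stabilizer G c ⊓ MulAction.stabilizer G d : Subgroup G)) := by
  rw [← Nat.not_even_iff_odd]
  intro hev
  haveI : Fact (Nat.Prime 2) := ⟨Nat.prime_two⟩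
  obtain ⟨g, hg⟩ := exists_prime_orderOf_dvd_card'
    (G := (MulAction.stabilizer G c ⊓ MulAction.stabilizer G d : Subgroup G)) 2 hev.two_dvd
  obtain ⟨hxc, hxd⟩ := Subgroup.mem_inf.1 g.2
  obtain ⟨x, hx0⟩ : ∃ x, x = (g : G) := ⟨_, rfl⟩
  have hx : orderOf x = 2 := by rw [hx0, Subgroup.orderOf_coe, hg]
  rw [← hx0] at hxc hxd
  rw [S.two_fix_two h hxc hxd ⟨1, by rw [pow_one, ← hx, pow_orderOf_eq_one]⟩, orderOf_one] at hx
  exact absurd hx (by norm_num)

theorem X0_le_R (S : Hyp G Ω) : S.X0 ≤ S.R := fun x hx => by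
  refine S.mem_R x hx.1 ?_
  refine (S.odd_stab_stab S.ne).of_dvd_nat ?_
  exact Subgroup.orderOf_dvd_natCard _ (Subgroup.mem_inf.2 ⟨(S.X0_fix hx).1, (S.X0_fix hx).2⟩)

theorem Z_norm_X0 (S : Hyp G Ω) {z : G} (hz : z ∈ S.Z) :
    z ∈ Subgroup.normalizer (S.X0 : Set G) := by
  refine Subgroup.mem_normalizer_iff.2 fun x => ⟨fun hx => ?_, fun hx => ?_⟩
  · rwa [show z * x * z⁻¹ = x from cj_eq_iff.2 (S.Z_comm_U hz hx.1).eq]
  · have h := cj_eq_iff.2 (S.Z_comm_U hz hx.1).eq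
    rw [show cj z (z * x * z⁻¹) = z * (z * x * z⁻¹) * z⁻¹ from rfl] at h
    rwa [show z * x * z⁻¹ = x from mul_left_cancel (mul_right_cancel h)] at hx

/-- The normaliser of the intersection has odd part only the intersection. -/
theorem R_norm_le (S : Hyp G Ω) {r : G} (hrR : r ∈ S.R)
    (hrN : r ∈ Subgroup.normalizer (S.X0 : Set G)) : r ∈ S.X0 := by
  classical
  haveI := S.finite_points
  let N0 : Subgroup G := Subgroup.normalizer (S.X0 : Set G)
  let Δ : Type v := {c : Ω // S.X0 ≤ S.Uat c}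
  letI actN : MulAction N0 Δ :=
    { smul := fun g c => ⟨(g : G) • c.1, S.delta_smul g.2 c.2⟩
      one_smul := fun c => Subtype.ext (one_smul G c.1)
      mul_smul := fun g g' c => Subtype.ext (mul_smul (g : G) (g' : G) c.1) }
  have hval : ∀ (g : N0) (c : Δ), ((g • c : Δ) : Ω) = (g : G) • c.1 := fun _ _ => rfl
  let π : N0 →* Equiv.Perm Δ := MulAction.toPermHom N0 Δ
  let G' : Subgroup (Equiv.Perm Δ) := π.range
  let f : N0 →* G' := π.rangeRestrict
  have hf : Function.Surjective f := π.rangeRestrict_surjective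
  have hsm : ∀ (g : N0) (c : Δ), f g • c = g • c := fun _ _ => rfl
  let A : Δ := ⟨S.a, S.delta_a⟩
  let B : Δ := ⟨S.b, S.delta_b⟩
  have hAB : B ≠ A := fun e => S.ne (congrArg Subtype.val e).symm
  obtain ⟨za, hza⟩ := S.exists_zat S.a
  obtain ⟨zb, hzb⟩ := S.exists_zat S.b
  obtain ⟨w, hw, -, hwa, hwb, -⟩ := S.exists_mid S.ne hza hzb
  let t : G' := f ⟨w, S.norm_of_swap hwa hwb⟩
  have htA : t • A = B := Subtype.ext hwa
  let UY : Subgroup N0 := S.U.subgroupOf N0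
  let Q : Subgroup G' := UY.map f
  -- transitivity
  have hQtr : ∀ c : Δ, c ≠ A → ∃ y ∈ UY, y • B = c := fun c hc => by
    obtain ⟨u, hu, huN, hub⟩ := S.exists_norm_of_delta (fun e => hc (Subtype.ext e)) c.2
    exact ⟨⟨u, huN⟩, hu, Subtype.ext hub⟩
  have hUfix : ∀ y ∈ UY, y • A = A := fun y hy => Subtype.ext (S.U_fix _ hy)
  have hmoveA : ∀ c : Δ, ∃ g : N0, g • c = A := fun c => by
    by_cases hc : c = A
    · exact ⟨1, by rw [one_smul, hc]⟩
    obtain ⟨y, hy, hyb⟩ := hQtr c hc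
    refine ⟨⟨w, S.norm_of_swap hwa hwb⟩ * y⁻¹, ?_⟩
    rw [mul_smul, ← hyb, inv_smul_smul]
    exact Subtype.ext hwb
  have htwo : MulAction.IsMultiplyPretransitive G' Δ 2 := by
    refine MulAction.is_two_pretransitive_iff.2 fun {b₁ b₂ c₁ c₂} hb hc => ?_
    obtain ⟨g, hg⟩ := hmoveA b₁
    obtain ⟨g', hg'⟩ := hmoveA c₁
    obtain ⟨y, hy, hyb⟩ := hQtr (g • b₂) (fun e => hb (smul_left_cancel g (hg.trans e.symm)))
    obtain ⟨y', hy', hyb'⟩ := hQtr (g' • c₂) (fun e => hc (smul_left_cancel g' (hg'.trans e.symm)))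
    refine ⟨f (g'⁻¹ * (y' * y⁻¹) * g), ?_, ?_⟩
    · rw [hsm, mul_smul, mul_smul, hg, mul_smul, inv_smul_eq_iff.2 (hUfix y hy).symm, hUfix y' hy',
        ← hg', inv_smul_smul]
    · rw [hsm, mul_smul, mul_smul, ← hyb, mul_smul, inv_smul_smul, hyb', inv_smul_smul]
  -- the setup
  have hQfree : ∀ y ∈ UY, y • B = B → f y = 1 := fun y hy hyb => by
    have hX : (y : G) ∈ S.X0 := S.stab_le_X0 ⟨hy, congrArg Subtype.val hyb⟩
    refine Subtype.ext (Equiv.ext fun c => Subtype.ext ?_)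
    exact S.uat_fix (c.2 hX)
  have hzB : ∀ z ∈ S.Z, ∀ hzN : z ∈ N0, z ≠ 1 → f ⟨z, hzN⟩ ≠ 1 := fun z hz hzN h1 e => by
    have h := congrArg (· • B) e
    simp only [one_smul, hsm] at h
    exact h1 (S.Z_free hz S.ne.symm (congrArg Subtype.val h))
  obtain ⟨hza1, hzaZ⟩ := S.zat_a.1 hza
  have hzaN := S.Z_norm_X0 hzaZ
  have hS : Cfsg.IsRankOneSetup G' Δ A t Q :=
    { two_transitive := htwo
      mul_self := by
        rw [← map_mul, show (⟨w, S.norm_of_swap hwa hwb⟩ * ⟨w, S.norm_of_swap hwa hwb⟩ : N0) = 1 from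
          Subtype.ext hw, map_one]
      ne_one := fun e => hAB (by rw [← htA, show t = 1 from e, one_smul])
      not_mem := fun e => hAB (htA.symm.trans e)
      le := by
        rintro _ ⟨y, hy, rfl⟩
        exact hUfix y hy
      conj_mem := by
        rintro h hh _ ⟨y, hy, rfl⟩
        obtain ⟨g, rfl⟩ := hf h
        refine ⟨g * y * g⁻¹, ?_, by rw [map_mul, map_mul, map_inv]⟩
        exact S.U_norm g (congrArg Subtype.val (hh : f g • A = A)) _ hy
      inf_eq_bot := by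
        rw [eq_bot_iff]
        rintro _ ⟨⟨y, hy, rfl⟩, hx⟩
        rw [htA] at hx
        exact Subgroup.mem_bot.2 (hQfree y hy hx)
      sup_eq := by
        refine le_antisymm (sup_le ?_ inf_le_left) fun h hh => ?_
        · rintro _ ⟨y, hy, rfl⟩
          exact hUfix y hy
        have hc : h • B ≠ A := fun e => hAB (smul_left_cancel h (e.trans (hh : h • A = A).symm))
        obtain ⟨y, hy, hyb⟩ := hQtr _ hc
        rw [show h = f y * ((f y)⁻¹ * h) by group]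
        refine Subgroup.mul_mem_sup ⟨y, hy, rfl⟩ (Subgroup.mem_inf.2 ⟨?_, ?_⟩)
        · rw [MulAction.mem_stabilizer_iff, mul_smul, (hh : h • A = A), inv_smul_eq_iff]
          exact (hUfix y hy).symm
        · rw [MulAction.mem_stabilizer_iff, htA, mul_smul, inv_smul_eq_iff]
          exact hyb.symm
      even_card := by
        have hzQ : f ⟨za, hzaN⟩ ∈ Q := ⟨⟨za, hzaN⟩, S.P_le (S.Z_le hzaZ), rfl⟩
        have h2 : orderOf (f ⟨za, hzaN⟩) = 2 := CfsgLib.Signalizer.orderOf_eq_two_of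
          (hzB za hzaZ hzaN hza1) (by
            rw [← map_mul, show (⟨za, hzaN⟩ * ⟨za, hzaN⟩ : N0) = 1 from Subtype.ext (S.zat_sq hza),
              map_one])
        exact even_iff_two_dvd.2 (h2 ▸ Subgroup.orderOf_dvd_natCard Q hzQ)
      odd_card := by
        rw [htA]
        let K : Subgroup N0 := (MulAction.stabilizer G S.a ⊓ MulAction.stabilizer G S.b).subgroupOf N0
        have hle : (MulAction.stabilizer G' A ⊓ MulAction.stabilizer G' B : Subgroup G') ≤ K.map f := by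
          rintro h ⟨hA, hB⟩
          obtain ⟨g, rfl⟩ := hf h
          exact ⟨g, ⟨congrArg Subtype.val (hA : f g • A = A), congrArg Subtype.val (hB : f g • B = B)⟩, rfl⟩
        refine (S.odd_stab_stab S.ne).of_dvd_nat ((Subgroup.card_dvd_of_le hle).trans
          ((Subgroup.card_map_dvd K f).trans ?_))
        exact Subgroup.card_comap_dvd_of_injective _ _ N0.subtype_injective }
  have h2 : ∃ x y : G', x ≠ 1 ∧ y ≠ 1 ∧ x ≠ y ∧ x * x = 1 ∧ y * y = 1 ∧ x * y = y * x := by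
    obtain ⟨zc, hzc, hne⟩ := S.exists_other hza
    obtain ⟨hzc1, hzcZ⟩ := S.zat_a.1 hzc
    have hzcN := S.Z_norm_X0 hzcZ
    refine ⟨f ⟨za, hzaN⟩, f ⟨zc, hzcN⟩, hzB za hzaZ hzaN hza1, hzB zc hzcZ hzcN hzc1, fun e => ?_, ?_, ?_, ?_⟩
    · refine hzB _ (mul_mem hzaZ hzcZ) (mul_mem hzaN hzcN) (fun e1 => hne ?_) ?_
      · exact (mul_left_cancel (e1.trans (S.zat_sq hza).symm))
      · show f (⟨za, hzaN⟩ * ⟨zc, hzcN⟩) = 1
        rw [map_mul, e, ← map_mul, show (⟨zc, hzcN⟩ * ⟨zc, hzcN⟩ : N0) = 1 from Subtype.ext (S.zat_sq hzc),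
          map_one]
    · rw [← map_mul, show (⟨za, hzaN⟩ * ⟨za, hzaN⟩ : N0) = 1 from Subtype.ext (S.zat_sq hza), map_one]
    · rw [← map_mul, show (⟨zc, hzcN⟩ * ⟨zc, hzcN⟩ : N0) = 1 from Subtype.ext (S.zat_sq hzc), map_one]
    · rw [← map_mul, ← map_mul]
      exact congrArg f (Subtype.ext (S.Z_comm_P hzaZ (S.Z_le hzcZ)).eq)
  haveI : Finite Δ := inferInstance
  obtain ⟨k, hk⟩ : ∃ k, Nat.card Q = 2 ^ k := by
    obtain ⟨n, -, hn⟩ := CfsgLib.Lie.RankOneClass.exists_pow_two hS h2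
    rcases CfsgLib.Lie.RankOneClass.shape_all _ G' Δ A t Q rfl hS h2 with h | ⟨-, h | ⟨h, -⟩⟩
    · exact ⟨n, by rw [h, hn]⟩
    · exact ⟨n * 2, by rw [h, hn, ← pow_mul]⟩
    · exact ⟨n * 3, by rw [h, hn, ← pow_mul]⟩
  have hy : (⟨r, hrN⟩ : N0) ∈ UY := S.R_le hrR
  have h1 : orderOf (f ⟨r, hrN⟩) ∣ 2 ^ k := hk ▸ Subgroup.orderOf_dvd_natCard Q ⟨_, hy, rfl⟩
  have h3 : orderOf (f ⟨r, hrN⟩) ∣ orderOf r := by
    refine (orderOf_map_dvd f (⟨r, hrN⟩ : N0)).trans ?_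
    rw [Subgroup.orderOf_mk]
  have hodd : Odd (orderOf r) := S.odd_R.of_dvd_nat (Subgroup.orderOf_dvd_natCard S.R hrR)
  have he : f ⟨r, hrN⟩ = 1 := orderOf_eq_one_iff.1 (Nat.eq_one_of_dvd_coprimes
    (Nat.Coprime.pow_left k (Nat.coprime_two_left.2 hodd)) h1 h3)
  have hrb : (⟨r, hrN⟩ : N0) • B = B := by rw [← hsm, he, one_smul]
  exact S.stab_le_X0 ⟨S.R_le hrR, congrArg Subtype.val hrb⟩

/-- **`U` is regular on the other points.** -/
theorem X0_eq_bot (S : Hyp G Ω) : S.X0 = ⊥ := by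
  haveI := S.nilp
  haveI : Group.IsNilpotent S.R :=
    Group.nilpotent_of_mulEquiv (Subgroup.subgroupOfEquivOfLe S.R_le)
  have hXR : S.R ≤ S.X0 := by
    by_contra hne
    have hlt : S.X0.subgroupOf S.R < ⊤ := lt_top_iff_ne_top.2 fun h => hne (Subgroup.subgroupOf_eq_top.1 h)
    obtain ⟨m, hm, hm'⟩ := SetLike.exists_of_lt (Group.normalizerCondition_of_isNilpotent _ hlt)
    refine hm' (Subgroup.mem_subgroupOf.2 (S.R_norm_le m.2 (Subgroup.mem_normalizer_iff.2 fun g => ?_)))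
    constructor
    · intro hg
      exact Subgroup.mem_subgroupOf.1 ((Subgroup.mem_normalizer_iff.1 hm ⟨g, S.X0_le_R hg⟩).1 hg)
    · intro hg
      have hgR : g ∈ S.R := by
        have := mul_mem (mul_mem (inv_mem m.2) (S.X0_le_R hg)) m.2
        rwa [show (m : G)⁻¹ * ((m : G) * g * (m : G)⁻¹) * m = g by group] at this
      exact Subgroup.mem_subgroupOf.1 ((Subgroup.mem_normalizer_iff.1 hm ⟨g, hgR⟩).2 hg)
  refine eq_bot_iff.2 fun r hr => Subgroup.mem_bot.2 ?_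
  have hrR := S.X0_le_R hr
  refine eq_of_smul_eq_smul (α := Ω) fun c => ?_
  rw [one_smul]
  by_cases hc : c = S.a
  · rw [hc, S.U_fix r hr.1]
  obtain ⟨u, hu, rfl⟩ := S.U_trans c hc
  have h1 : cj u⁻¹ r ∈ S.X0 := hXR (S.R_norm (S.U_fix _ (inv_mem hu)) hrR)
  have h2 := cj_smul_fix (g := u) (S.X0_fix h1).2
  rwa [cj_cancel] at h2

theorem free (S : Hyp G Ω) {x : G} (hx : x ∈ S.U) (hb : x • S.b = S.b) : x = 1 := by
  have := S.stab_le_X0 ⟨hx, hb⟩
  rwa [S.X0_eq_bot, Subgroup.mem_bot] at this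

theorem free_at (S : Hyp G Ω) {x : G} (hx : x ∈ S.U) {c : Ω} (hc : c ≠ S.a) (hxc : x • c = c) :
    x = 1 := by
  obtain ⟨u, hu, rfl⟩ := S.U_trans c hc
  have h1 : cj u⁻¹ x = 1 := S.free (S.U.mul_mem (S.U.mul_mem (S.U.inv_mem hu) hx) (S.U.inv_mem (S.U.inv_mem hu))) (by
    simp only [cj, inv_inv, mul_smul]
    rw [hxc, inv_smul_smul])
  exact cj_eq_one.1 h1

end Hyp

end CfsgLib.LocalEvenB.SplitOdd
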