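import Cfsg.Agent.Lib.LocalEvenB.SplitOdd.Cover
import Cfsg.Agent.Lib.Transfer.Tate

/-!
Owner: helper20. The two part of a two point stabiliser is trivial: otherwise the squaring map of the
second central layer gives a homomorphism of `P` which is stable under fusion.
-/

set_option autoImplicit false
set_option linter.all false

namespace CfsgLib.LocalEvenB.SplitOdd

open scoped commutatorElement

open CfsgLib.LocalEvenB.OddUnitary (cj cj_mul cj_inv cj_cj cj_one_left cj_one cj_pow cj_eq_one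
  cj_eq_iff cj_injective)

/-- The commutator. -/
def cm {G : Type*} [Group G] (x y : G) : G := x * y * x⁻¹ * y⁻¹

theorem cm_mul_left {G : Type*} [Group G] (x y z : G) : cm (x * y) z = cj x (cm y z) * cm x z := by
  simp only [cm, cj]; group

theorem cm_mul_right {G : Type*} [Group G] (x y z : G) : cm x (y * z) = cm x y * cj y (cm x z) := by
  simp only [cm, cj]; group

theorem cm_inv_left {G : Type*} [Group G] (x z : G) : cm x⁻¹ z = cj x⁻¹ (cm x z)⁻¹ := by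
  simp only [cm, cj]; group

theorem cm_swap {G : Type*} [Group G] (x y : G) : cm y x = (cm x y)⁻¹ := by
  simp only [cm]; group

theorem cj_cm {G : Type*} [Group G] (g x y : G) : cj g (cm x y) = cm (cj g x) (cj g y) := by
  simp only [cm, cj_mul, cj_inv]

theorem cm_eq_one {G : Type*} [Group G] {x y : G} : cm x y = 1 ↔ x * y = y * x := by
  rw [cm, mul_inv_eq_one, mul_inv_eq_iff_eq_mul]

namespace Hyp

variable {G Ω : Type*} [Group G] [MulAction G Ω] [Finite G] [FaithfulSMul G Ω] (S : Hyp G Ω)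

omit [Finite G] [FaithfulSMul G Ω] in
theorem Z_cjP {z p : G} (hz : z ∈ S.Z) (hp : p ∈ S.P) : cj p z = z :=
  cj_eq_iff.2 (S.Z_comm_P hz hp).eq.symm

omit [FaithfulSMul G Ω] in
theorem cm_left_P {x y : G} (hx : x ∈ S.P) (z : G) (hy : cm y z ∈ S.Z) :
    cm (x * y) z = cm y z * cm x z := by
  rw [cm_mul_left, S.Z_cjP hy hx]

/-- The second central layer. -/
def W : Subgroup G where
  carrier := {y | y ∈ S.P ∧ y * y ∈ S.Z ∧ ∀ p ∈ S.P, cm y p ∈ S.Z}
  one_mem' := ⟨one_mem _, by rw [one_mul]; exact one_mem _, fun p _ => by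
    rw [show cm 1 p = 1 by simp [cm]]; exact one_mem _⟩
  mul_mem' := by
    rintro x y ⟨hx, hx2, hxc⟩ ⟨hy, hy2, hyc⟩
    refine ⟨mul_mem hx hy, ?_, fun p hp => by rw [S.cm_left_P hx p (hyc p hp)]; exact mul_mem (hyc p hp) (hxc p hp)⟩
    have h := S.Z_comm_P (hyc x hx) hx
    have e : x * y * (x * y) = cm y x * (x * x) * (y * y) := by
      calc x * y * (x * y) = x * (cm y x * (x * y)) * y := by simp only [cm]; group
        _ = (x * cm y x) * (x * y * y) := by group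
        _ = (cm y x * x) * (x * y * y) := by rw [h.eq]
        _ = _ := by group
    rw [e]
    exact mul_mem (mul_mem (hyc x hx) hx2) hy2
  inv_mem' := by
    rintro x ⟨hx, hx2, hxc⟩
    refine ⟨inv_mem hx, by rw [← mul_inv_rev]; exact inv_mem hx2, fun p hp => ?_⟩
    rw [cm_inv_left, S.Z_cjP (inv_mem (hxc p hp)) (inv_mem hx)]
    exact inv_mem (hxc p hp)

omit [FaithfulSMul G Ω] in
theorem Z_le_W {z : G} (hz : z ∈ S.Z) : z ∈ S.W :=
  ⟨S.Z_le hz, by rw [S.Z_sq hz]; exact one_mem _, fun p hp => by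
    rw [cm_eq_one.2 (S.Z_comm_P hz hp).eq]; exact one_mem _⟩

omit [FaithfulSMul G Ω] in
theorem W_cj {g y : G} (hg : g • S.a = S.a) (hy : y ∈ S.W) : cj g y ∈ S.W := by
  refine ⟨S.P_norm g hg y hy.1, by rw [← cj_mul]; exact S.Z_cj hg hy.2.1, fun p hp => ?_⟩
  have h := S.Z_cj hg (hy.2.2 _ (S.P_norm g⁻¹ (by rw [inv_smul_eq_iff, hg]) p hp))
  rwa [cj_cm, cj_cancel] at h

theorem W_invol {y : G} (hy : y ∈ S.W) (h2 : y * y = 1) : y ∈ S.Z := by
  by_contra hyZ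
  have hy1 : y ≠ 1 := fun h => hyZ (h ▸ one_mem _)
  have hya : y • S.a = S.a := S.U_fix _ (S.P_le hy.1)
  obtain ⟨c, hca, hc⟩ := S.exists_fix_ne h2 hy1 hya (fun h => hyZ (S.zat_a.1 h).2)
  have hT := S.tame_of_fix h2 hy1 hca hc hya
  obtain ⟨j, hj⟩ := S.exists_zat c
  have hiT := S.tame_mul hT hc hj
  obtain ⟨x, hxc, hx⟩ := S.exists_fix_ne hiT.1 hiT.2.1 (e := c) (by rw [mul_smul, S.zat_fix hj, hc]) (hiT.2.2 c)
  have hyx : y • x ≠ x := fun h => hxc (S.zat_free hj (by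
    rw [mul_smul] at hx; exact smul_left_cancel y (hx.trans h.symm)))
  have hxa : x ≠ S.a := fun h => hyx (by rw [h, hya])
  obtain ⟨u1, hu1, hu1c⟩ := S.U_trans c hca
  obtain ⟨u2, hu2, hu2x⟩ := S.U_trans x hxa
  obtain ⟨p, hp, r, hr, -, -, e⟩ := S.parts (Y := ⊤) (mul_mem hu2 (inv_mem hu1)) (Subgroup.mem_top _)
  have hfix : cj (p * r) y • x = x := by
    have h := cj_smul_fix (g := p * r) hc
    rwa [← e, mul_smul, ← hu1c, inv_smul_smul, hu2x, e] at h
  rw [← cj_cj, cj_eq_iff.2 (S.comm hy.1 hr).eq.symm] at hfix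
  set z := cm y⁻¹ p with hz
  have hzZ : z ∈ S.Z := (S.W.inv_mem hy).2.2 p hp
  have hcj : cj p y = y * z := by simp only [hz, cm, cj]; group
  rw [hcj] at hfix
  have hz1 : z ≠ 1 := fun h => hyx (by rwa [h, mul_one] at hfix)
  exact hca (S.cover_unique h2 hyx hc hya hj (S.zat_a.2 ⟨hz1, hzZ⟩) hx hfix).1

/-- The two point stabiliser in `P`. -/
def T : Subgroup G := S.P ⊓ MulAction.stabilizer G S.b

omit [Finite G] [FaithfulSMul G Ω] in
theorem mem_T {x : G} : x ∈ S.T ↔ x ∈ S.P ∧ x • S.b = S.b := Iff.rfl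

theorem W_cap {x : G} (hx : x ∈ S.W) (hb : x • S.b = S.b) : x = 1 := by
  have h2 : x * x = 1 := S.Z_free hx.2.1 (Ne.symm S.ne) (by rw [mul_smul, hb, hb])
  exact S.Z_free (S.W_invol hx h2) (Ne.symm S.ne) hb

variable [IsSimpleGroup G]

theorem W_cent {u y : G} (hu : u ∈ S.P) (h2 : u * u = 1) (h1 : u ≠ 1) (hb : u • S.b = S.b)
    (hy : y ∈ S.W) (h : y * u = u * y) : y ∈ S.Z := by
  obtain ⟨z, hz, hzy⟩ := (S.fix_eq_line hu h2 h1 hb).2 y hy.1 h
  have := S.W_cap (mul_mem (S.Z_le_W hz) hy) hzy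
  rw [← inv_eq_of_mul_eq_one_right this]
  exact inv_mem hz

theorem cm_surj {u : G} (hu : u ∈ S.P) (h2 : u * u = 1) (h1 : u ≠ 1) (hb : u • S.b = S.b)
    {y0 : G} (hy0 : y0 ∈ S.W) (hy0Z : y0 ∉ S.Z) {z : G} (hz : z ∈ S.Z) (hz1 : z ≠ 1) :
    ∃ h : G, h • S.a = S.a ∧ cj h u = u ∧ cm (cj h y0) u = z ∧ cj h (cm y0 u) = z := by
  have hc : cm y0 u ≠ 1 := fun h => hy0Z (S.W_cent hu h2 h1 hb hy0 (cm_eq_one.1 h))
  obtain ⟨h, ha, -, hcz, hx⟩ := S.exists_move (Ne.symm S.ne) (S.zat_a.2 ⟨hc, hy0.2.2 u hu⟩)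
    (S.zat_a.2 ⟨hz1, hz⟩)
  have hua : u • S.a = S.a := S.U_fix _ (S.P_le hu)
  have hcu : cj h u = u := cj_eq_iff.2 (hx u (fun j hj => S.comm_zat h2 hua hj)
    (fun j hj => S.comm_zat h2 hb hj)).eq.symm
  refine ⟨h, ha, hcu, ?_, hcz⟩
  conv_lhs => rw [← hcu]
  rw [← cj_cm, hcz]

theorem not_comm (S : Hyp G Ω) : _root_.commutator G = ⊤ := by
  refine ((Subgroup.Normal.eq_bot_or_eq_top (inferInstance : (_root_.commutator G).Normal)).resolve_left
    fun h => ?_)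
  obtain ⟨z, hz⟩ := S.exists_zat S.a
  obtain ⟨g, ga, -⟩ := S.two S.b S.a (Ne.symm S.ne)
  have hc : g * z = z * g := by
    have h0 : ⁅g, z⁆ ∈ _root_.commutator G :=
      Subgroup.commutator_mem_commutator (Subgroup.mem_top g) (Subgroup.mem_top z)
    rw [h, Subgroup.mem_bot, commutatorElement_def] at h0
    exact cm_eq_one.1 h0
  refine S.ne (S.zat_free hz ?_).symm
  rw [← ga, ← mul_smul, ← hc, mul_smul, S.zat_fix hz]

/-- **The two part of a two point stabiliser is trivial.** -/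
theorem T_eq_bot : S.T = ⊥ := by
  classical
  by_contra hT
  haveI := Fact.mk Nat.prime_two
  -- an involution of `T` central in its normaliser
  set N : Subgroup G := S.P ⊓ Subgroup.normalizer (S.T : Set G) with hN
  have hTN : S.T ≤ N := le_inf inf_le_left Subgroup.le_normalizer
  haveI : (S.T.subgroupOf N).Normal :=
    Subgroup.normal_subgroupOf_of_le_normalizer inf_le_right
  obtain ⟨u0, hu0T, hu0c, hu0o⟩ := CfsgLib.Transfer.exists_mem_center_orderOf_eq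
    (S.P_two.to_le (inf_le_left : N ≤ S.P)) (Z := S.T.subgroupOf N)
    (fun h => hT ((Subgroup.subgroupOf_eq_bot.1 h).eq_bot_of_le hTN))
  set u : G := (u0 : G) with hudef
  obtain ⟨huP, hub⟩ := S.mem_T.1 (show u ∈ S.T from hu0T)
  have huo : orderOf u = 2 := by rw [hudef, Subgroup.orderOf_coe, hu0o]
  have hu2 : u * u = 1 := CfsgLib.Signalizer.involution_sq huo
  have hu1 : u ≠ 1 := CfsgLib.Signalizer.involution_ne_one huo
  have huZ : u ∉ S.Z := fun h => hu1 (S.Z_free h (Ne.symm S.ne) hub)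
  -- the centraliser of `u` modulo `Z`
  let Cu : Subgroup S.P :=
    { carrier := {p | cm (p : G) u ∈ S.Z}
      one_mem' := by show cm ((1 : S.P) : G) u ∈ S.Z; simp [cm, one_mem]
      mul_mem' := fun {x y} hx hy => by
        show cm ((x : G) * y) u ∈ S.Z
        rw [S.cm_left_P x.2 u hy]; exact mul_mem hy hx
      inv_mem' := fun {x} hx => by
        show cm (x : G)⁻¹ u ∈ S.Z
        rw [cm_inv_left, S.Z_cjP (inv_mem hx) (inv_mem x.2)]; exact inv_mem hx }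
  let uP : S.P := ⟨u, huP⟩
  have huC : uP ∈ Cu := by show cm u u ∈ S.Z; rw [cm_eq_one.2 rfl]; exact one_mem _
  have hCtop : Cu ≠ ⊤ := fun h => huZ (S.W_invol ⟨huP, by rw [hu2]; exact one_mem _, fun p hp => by
    rw [cm_swap p u]
    exact inv_mem (show (⟨p, hp⟩ : S.P) ∈ Cu from h ▸ Subgroup.mem_top _)⟩ hu2)
  obtain ⟨p, hpC, hpfix⟩ : ∃ p : S.P, p ∉ Cu ∧ p⁻¹ * uP * p ∈ Cu := by
    by_contra hcon
    push Not at hcon
    have h := modEq_fixed_two (MulAction.toPerm (α := S.P) (β := S.P ⧸ Cu) uP) (Equiv.ext fun x => by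
      show uP • uP • x = x
      rw [← mul_smul, show uP * uP = 1 from Subtype.ext hu2, one_smul])
    have hfix : Nat.card {x : S.P ⧸ Cu // MulAction.toPerm (α := S.P) (β := S.P ⧸ Cu) uP x = x} = 1 := by
      rw [Nat.card_eq_one_iff_unique]
      refine ⟨⟨fun x y => ?_⟩, ⟨⟨((1 : S.P) : S.P ⧸ Cu), ?_⟩⟩⟩
      · have key : ∀ z : {x : S.P ⧸ Cu // uP • x = x}, z.1 = ((1 : S.P) : S.P ⧸ Cu) := fun ⟨z, hz⟩ => by
          obtain ⟨q, rfl⟩ := QuotientGroup.mk_surjective z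
          rw [MulAction.Quotient.smul_mk, smul_eq_mul, QuotientGroup.eq] at hz
          refine QuotientGroup.eq.2 ?_
          rw [mul_one]
          refine inv_mem (by_contra fun hq => hcon q hq ?_)
          rw [show q⁻¹ * uP * q = ((uP * q)⁻¹ * q) from by
            rw [mul_inv_rev, show uP⁻¹ = uP from Subtype.ext (inv_of_sq hu2)]]
          exact hz
        exact Subtype.ext ((key x).trans (key y).symm)
      · show uP • ((1 : S.P) : S.P ⧸ Cu) = _
        rw [MulAction.Quotient.smul_mk, smul_eq_mul, mul_one, QuotientGroup.eq, mul_one]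
        exact inv_mem huC
    obtain ⟨n, hn⟩ := (S.P_two).index Cu
    rw [Nat.ModEq, hfix, show Nat.card (S.P ⧸ Cu) = 2 ^ n from hn] at h
    rcases n with _ | n
    · exact hCtop (Subgroup.index_eq_one.1 (by rw [hn, pow_zero]))
    · simp [pow_succ] at h
  set u' : G := (p : G)⁻¹ * u * p with hu'
  have hu'P : u' ∈ S.P := mul_mem (mul_mem (inv_mem p.2) huP) p.2
  have hu'2 : u' * u' = 1 := by
    rw [hu', show (p : G)⁻¹ * u * p * ((p : G)⁻¹ * u * p) = (p : G)⁻¹ * (u * u) * p by group, hu2]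
    group
  have hcZ : cm u' u ∈ S.Z := hpfix
  -- a nontrivial element of `W`
  obtain ⟨y0, hy0, hy0Z⟩ : ∃ y, y ∈ S.W ∧ y ∉ S.Z := by
    set K : Subgroup S.P := S.Z.subgroupOf S.P with hK
    haveI : K.Normal := ⟨fun z hz g => by
      rw [hK, Subgroup.mem_subgroupOf] at hz ⊢
      exact S.Z_cj (S.U_fix _ (S.P_le g.2)) hz⟩
    obtain ⟨y, -, hyc, hyo⟩ := CfsgLib.Transfer.exists_mem_center_orderOf_eq (p := 2)
      (S.P_two.to_quotient K) (Z := ⊤) (fun h => huZ (by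
        have h1 : (QuotientGroup.mk uP : S.P ⧸ K) ∈ (⊤ : Subgroup (S.P ⧸ K)) := Subgroup.mem_top _
        rw [h, Subgroup.mem_bot, QuotientGroup.eq_one_iff] at h1
        exact h1))
    obtain ⟨y, rfl⟩ := QuotientGroup.mk_surjective y
    refine ⟨(y : G), ⟨y.2, ?_, fun q hq => ?_⟩, fun h => ?_⟩
    · have h1 := CfsgLib.Signalizer.involution_sq hyo
      rw [← QuotientGroup.mk_mul, QuotientGroup.eq_one_iff] at h1
      exact h1
    · have h1 := Subgroup.mem_center_iff.1 hyc (QuotientGroup.mk ⟨q, hq⟩)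
      rw [← QuotientGroup.mk_mul, ← QuotientGroup.mk_mul, QuotientGroup.eq] at h1
      have h3 := S.Z_cj (g := (⟨q, hq⟩ * y : S.P)) (S.U_fix _ (S.P_le (⟨q, hq⟩ * y : S.P).2))
        (Subgroup.mem_subgroupOf.1 h1)
      convert h3 using 1
      simp only [cm, cj, Subgroup.coe_mul, Subgroup.coe_inv]
      group
    · have h0 : (QuotientGroup.mk y : S.P ⧸ K) = 1 := (QuotientGroup.eq_one_iff y).2 h
      rw [h0, orderOf_one] at hyo
      exact absurd hyo (by norm_num)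
  -- the decomposition of `u'`
  obtain ⟨y, hyW, hyc⟩ : ∃ y ∈ S.W, cm y u = cm u' u := by
    by_cases h : cm u' u = 1
    · exact ⟨1, one_mem _, by rw [h]; simp [cm]⟩
    · obtain ⟨h', ha, -, hh, -⟩ := S.cm_surj huP hu2 hu1 hub hy0 hy0Z hcZ h
      exact ⟨_, S.W_cj ha hy0, hh⟩
  set t := y⁻¹ * u' with ht
  have htP : t ∈ S.P := mul_mem (inv_mem hyW.1) hu'P
  have htu : t * u = u * t := cm_eq_one.1 (by
    rw [ht, S.cm_left_P (inv_mem hyW.1) u hcZ, cm_inv_left, hyc,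
      S.Z_cjP (inv_mem hcZ) (inv_mem hyW.1), mul_inv_cancel])
  obtain ⟨z, hz, hzt⟩ := (S.fix_eq_line huP hu2 hu1 hub).2 t htP htu
  set Y := y * z with hY
  set t0 := z * t with ht0
  have hYW : Y ∈ S.W := mul_mem hyW (S.Z_le_W hz)
  have ht0P : t0 ∈ S.P := mul_mem (S.Z_le hz) htP
  have hu'e : u' = Y * t0 := by
    rw [hY, ht0, show y * z * (z * t) = y * (z * z) * t by group, S.Z_sq hz, mul_one, ht,
      mul_inv_cancel_left]
  set c := cm Y t0 with hc
  have hcc : c ∈ S.Z := hYW.2.2 t0 ht0P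
  have e1 : c * c * (t0 * t0) = (Y * Y) * c := by
    have h := hu'2
    rw [hu'e] at h
    have hx : t0 * Y = c⁻¹ * (Y * t0) := by rw [hc, cm]; group
    have h3 : Y * c⁻¹ = c⁻¹ * Y := (S.Z_comm_P (inv_mem hcc) hYW.1).eq.symm
    have h2 : c⁻¹ * (Y * Y) * (t0 * t0) = 1 := by
      rw [← h, show Y * t0 * (Y * t0) = Y * (t0 * Y) * t0 by group, hx]
      rw [show Y * (c⁻¹ * (Y * t0)) * t0 = (Y * c⁻¹) * Y * (t0 * t0) by group, h3]
      group
    have h4 : (Y * Y) * (t0 * t0) = c := by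
      rw [mul_assoc] at h2
      exact (inv_mul_eq_one.1 h2).symm
    rw [S.Z_sq hcc, one_mul]
    calc t0 * t0 = (Y * Y)⁻¹ * c := by rw [← h4, inv_mul_cancel_left]
      _ = (Y * Y) * c := by rw [inv_of_sq (S.Z_sq hYW.2.1)]
  rw [S.Z_sq hcc, one_mul] at e1
  have ht0b : t0 • S.b = S.b := hzt
  have ht02 : t0 * t0 = 1 :=
    S.Z_free (e1 ▸ mul_mem hYW.2.1 hcc) (Ne.symm S.ne) (by rw [mul_smul, ht0b, ht0b])
  have hsq : Y * Y = c := by
    rw [ht02] at e1
    exact (inv_of_sq (S.Z_sq hcc)) ▸ (eq_inv_of_mul_eq_one_left e1.symm)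
  have hpu : (p : G) * u' * (p : G)⁻¹ = u := by rw [hu']; group
  have ht01 : t0 ≠ 1 := fun h => huZ (by
    rw [h, mul_one] at hu'e
    have h' := S.W_invol (hu'e ▸ hYW) hu'2
    rw [← hpu]
    exact S.Z_cj (g := (p : G)) (S.U_fix _ (S.P_le p.2)) h')
  have hYZ : Y ∉ S.Z := fun hYZ => by
    obtain ⟨y1, hy1, hy1c⟩ : ∃ y1 ∈ S.W, cm y1 t0 = Y := by
      by_cases h : Y = 1
      · exact ⟨1, one_mem _, by rw [h]; simp [cm]⟩
      · obtain ⟨h', ha, -, hh, -⟩ := S.cm_surj ht0P ht02 ht01 ht0b hy0 hy0Z hYZ h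
        exact ⟨_, S.W_cj ha hy0, hh⟩
    set g := y1⁻¹ * (p : G)⁻¹ with hg
    have hgP : g ∈ S.P := mul_mem (inv_mem hy1.1) (inv_mem p.2)
    have hgu : cj g u = t0 := by
      have : cm y1 t0 * t0 = u' := by rw [hy1c, ← hu'e]
      rw [hu', cm] at this
      simp only [hg, cj]
      calc _ = y1⁻¹ * ((p : G)⁻¹ * u * p) * y1 := by group
        _ = _ := by rw [← this]; group
    have hTle : S.T.map (MulAut.conj g).toMonoidHom ≤ S.T := by
      rintro _ ⟨x, hx, rfl⟩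
      obtain ⟨hxP, hxb⟩ := S.mem_T.1 hx
      refine S.mem_T.2 ⟨S.P_norm g (S.U_fix _ (S.P_le hgP)) x hxP, ?_⟩
      have hfu : u • (g⁻¹ • S.b) = g⁻¹ • S.b := by
        have h0 := cj_smul_fix (g := g⁻¹) ht0b
        rwa [← hgu, cj_cancel'] at h0
      have hxfix : x • (g⁻¹ • S.b) = g⁻¹ • S.b := by
        rcases ((S.fix_eq_line huP hu2 hu1 hub).1 _).1 hfu with e | ⟨z', hz', r, hr, e⟩
        · rw [e]; exact S.U_fix _ (S.P_le hxP)
        · rw [← e, ← mul_smul, ← mul_assoc, ← (S.Z_comm_P hz' hxP).eq, mul_assoc, (S.comm hxP hr).eq,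
            ← mul_assoc, mul_smul, hxb]
      show (g * x * g⁻¹) • S.b = S.b
      rw [mul_smul, mul_smul, hxfix, smul_inv_smul]
    have hTeq : S.T.map (MulAut.conj g).toMonoidHom = S.T :=
      Subgroup.eq_of_le_of_card_ge hTle
        (Subgroup.card_map_of_injective (MulAut.conj g).injective).ge
    have hgN : g ∈ N := ⟨hgP, by
      refine Subgroup.mem_normalizer_iff.2 fun x => ?_
      constructor
      · intro hx; exact hTeq.le ⟨x, hx, rfl⟩
      · intro hx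
        obtain ⟨x', hx', e⟩ := hTeq.ge hx
        have e' : g * x' * g⁻¹ = g * x * g⁻¹ := e
        rwa [← mul_left_cancel (mul_right_cancel e')]⟩
    have hcomm : g * u = u * g := congrArg Subtype.val (Subgroup.mem_center_iff.1 hu0c ⟨g, hgN⟩)
    rw [cj_eq_iff.2 hcomm] at hgu
    refine hpC (inv_mem_iff.1 ?_)
    show cm (p : G)⁻¹ u ∈ S.Z
    have : cm (p : G)⁻¹ u = u' * u⁻¹ := by rw [hu', cm]; group
    rw [this, hu'e, ← hgu, mul_inv_cancel_right]
    exact hYZ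
  -- `cm · t0` is the squaring map
  have key : ∀ w ∈ S.W, cm w t0 = w * w := by
    intro w hw
    by_cases hwZ : w ∈ S.Z
    · rw [S.Z_sq hwZ, cm_eq_one.2 (S.Z_comm_P hwZ ht0P).eq]
    have hc' : cm w t0 ≠ 1 := fun h => hwZ (S.W_cent ht0P ht02 ht01 ht0b hw (cm_eq_one.1 h))
    obtain ⟨h, ha, hht, hh, hh'⟩ := S.cm_surj ht0P ht02 ht01 ht0b hYW hYZ (hw.2.2 t0 ht0P) hc'
    have hd : w⁻¹ * cj h Y ∈ S.Z := S.W_cent ht0P ht02 ht01 ht0b (mul_mem (inv_mem hw) (S.W_cj ha hYW))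
      (cm_eq_one.1 (by
        rw [S.cm_left_P (inv_mem hw.1) t0 ((S.W_cj ha hYW).2.2 t0 ht0P), hh, cm_inv_left,
          S.Z_cjP (inv_mem (hw.2.2 t0 ht0P)) (inv_mem hw.1), mul_inv_cancel]))
    have hsq' : cj h Y * cj h Y = w * w := by
      set d := w⁻¹ * cj h Y with hd'
      have e : cj h Y = w * d := by rw [hd', mul_inv_cancel_left]
      rw [e, mul_assoc w, ← mul_assoc d, (S.Z_comm_P hd hw.1).eq, mul_assoc w d d, S.Z_sq hd, mul_one]
    rw [← hsq', ← cj_mul, hsq]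
    exact hh'.symm
  -- the homomorphism
  letI : CommGroup S.Z := { (inferInstance : Group S.Z) with
    mul_comm := fun x y => Subtype.ext (S.Z_comm_P x.2 (S.Z_le y.2)).eq }
  haveI := Fintype.ofFinite S.H
  have hfixH : ∀ h : S.H, (h : G) • S.a = S.a := fun h => (S.H_fix _ h.2).1
  let χ : S.P →* S.Z := MonoidHom.mk'
    (fun x => ∏ h : S.H, (⟨cm Y (cj (h : G) x), hYW.2.2 _ (S.P_norm _ (hfixH h) _ x.2)⟩ : S.Z))
    (fun x x' => by
      rw [← Finset.prod_mul_distrib]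
      refine Finset.prod_congr rfl fun h _ => Subtype.ext ?_
      show cm Y (cj (h : G) (x * x' : G)) = cm Y (cj (h : G) x) * cm Y (cj (h : G) x')
      rw [cj_mul, cm_mul_right, S.Z_cjP (hYW.2.2 _ (S.P_norm _ (hfixH h) _ x'.2))
        (S.P_norm _ (hfixH h) _ x.2)])
  have hinv : ∀ (x : S.P) (g : G) (hg : cj g (x : G) ∈ S.P), χ ⟨cj g x, hg⟩ = χ x := by
    intro x g hg
    obtain ⟨g', ga, e⟩ := S.fusion x.2 hg
    obtain ⟨v, hv, h', hh', rfl⟩ := S.stab g' ga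
    obtain ⟨q, hq, r, hr, -, -, rfl⟩ := S.parts (Y := ⊤) hv (Subgroup.mem_top _)
    have hx1 : cj h' (x : G) ∈ S.P := S.P_norm _ (S.H_fix _ hh').1 _ x.2
    have e2 : cj g (x : G) = cj q (cj h' (x : G)) := by
      rw [← e, ← cj_cj, ← cj_cj, cj_eq_iff.2 (S.comm hx1 hr).eq.symm]
    have e3 : (⟨cj g (x : G), hg⟩ : S.P) = ⟨q, hq⟩ * ⟨cj h' x, hx1⟩ * ⟨q, hq⟩⁻¹ := Subtype.ext e2
    rw [e3, map_mul, map_mul, map_inv, mul_comm (χ ⟨q, hq⟩), mul_inv_cancel_right]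
    show ∏ h : S.H, _ = ∏ h : S.H, _
    refine Fintype.prod_equiv (Equiv.mulRight ⟨h', hh'⟩) _ _ fun h => Subtype.ext ?_
    show cm Y (cj (h : G) (cj h' x)) = cm Y (cj ((h : G) * h') x)
    rw [cj_cj]
  have hχ : χ ⟨t0, ht0P⟩ = ⟨c, hcc⟩ := by
    show ∏ h : S.H, _ = _
    rw [Finset.prod_congr rfl (g := fun _ => (⟨c, hcc⟩ : S.Z)) (fun h _ => Subtype.ext (by
      show cm Y (cj (h : G) t0) = c
      have hha : (h : G)⁻¹ • S.a = S.a := by rw [inv_smul_eq_iff, hfixH h]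
      rw [← cj_cancel (h : G) Y, ← cj_cm, key _ (S.W_cj hha hYW), ← cj_mul, cj_cancel, hsq])),
      Finset.prod_const, Finset.card_univ, ← Nat.card_eq_fintype_card]
    obtain ⟨l, hl⟩ := S.odd_H
    rw [hl, pow_succ, pow_mul, pow_two, show (⟨c, hcc⟩ : S.Z) * ⟨c, hcc⟩ = 1 from Subtype.ext (S.Z_sq hcc),
      one_pow, one_mul]
  have hfoc : ∀ g ∈ Subgroup.focalSubgroup S.P, ∃ hg : g ∈ S.P, χ ⟨g, hg⟩ = 1 := by
    intro g hg
    induction hg using Subgroup.closure_induction with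
    | mem g hg =>
      obtain ⟨hgP, x, hx, v, e⟩ := hg
      refine ⟨hgP, ?_⟩
      have e1 : cj v x⁻¹ = x⁻¹ * g := by rw [e, commutatorElement_def, cj]; group
      have h := hinv ⟨x⁻¹, inv_mem hx⟩ v (by show cj v x⁻¹ ∈ S.P; rw [e1]; exact mul_mem (inv_mem hx) hgP)
      rw [show (⟨cj v ((⟨x⁻¹, inv_mem hx⟩ : S.P) : G), _⟩ : S.P) = ⟨x⁻¹, inv_mem hx⟩ * ⟨g, hgP⟩ from
        Subtype.ext e1, map_mul] at h
      exact mul_eq_left.1 h
    | one => exact ⟨one_mem _, map_one χ⟩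
    | mul g g' _ _ ih ih' =>
      obtain ⟨hg, e⟩ := ih
      obtain ⟨hg', e'⟩ := ih'
      refine ⟨mul_mem hg hg', ?_⟩
      show χ (⟨g, hg⟩ * ⟨g', hg'⟩) = 1
      rw [map_mul, e, e', one_mul]
    | inv g _ ih =>
      obtain ⟨hg, e⟩ := ih
      refine ⟨inv_mem hg, ?_⟩
      show χ (⟨g, hg⟩⁻¹) = 1
      rw [map_inv, e, inv_one]
  have htop : t0 ∈ Subgroup.focalSubgroup S.P := by
    have h := Subgroup.commutator_inf_eq_focalSubgroup (S.P_two.toSylow S.P_index)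
    rw [S.not_comm, top_inf_eq] at h
    exact h.le ht0P
  obtain ⟨h0, h1⟩ := hfoc t0 htop
  have hc1 : c = 1 := congrArg Subtype.val (hχ.symm.trans h1)
  exact hYZ (S.W_invol hYW (hsq.trans hc1))

end Hyp

end CfsgLib.LocalEvenB.SplitOdd
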